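import Mathlib
import Groth.Prelude.Def_DCoh3
import Groth.Prelude.Def_CxOX
import Groth.Agent.Lib.Helper5.BvdB.Adj2
import Groth.Agent.Lib.Helper5.ShriekProj.Sheaf
import Groth.Agent.Lib.Helper5.DCenter.Kill

/-!
# The objects `j_! O_U [-n]` and the maps `j_! O_U ⟶ O_X` (helper5)
-/
set_option autoImplicit false
set_option linter.unusedSectionVars false
set_option linter.unusedVariables false
universe u
open CategoryTheory CategoryTheory.Limits AlgebraicGeometry
attribute [local instance] HasDerivedCategory.standard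

namespace Groth.Agent.Lib.Helper5.RHomQC

open Groth.Agent.Lib.Helper5.BvdB Groth.Agent.Lib.Helper5.DCenter

attribute [local instance] preservesFiniteLimits_extZero

variable {X : Scheme.{u}} (U : X.Opens)

/-- `j_! O_U` -/
noncomputable abbrev WU : X.Modules :=
  (CxOX.extZero U.ι).obj (Coh.structureModule (U : Scheme.{u}))

/-- the canonical map `j_! O_U ⟶ O_X` -/
noncomputable def ε₀ : WU U ⟶ Coh.structureModule X :=
  ((CxOX.extZeroAdj U.ι).homEquiv _ _).symm (Scheme.Modules.restrictUnitIso U.ι).inv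

lemma unit_map_ε₀ :
    (CxOX.extZeroAdj U.ι).unit.app (Coh.structureModule (U : Scheme.{u})) ≫
      (Scheme.Modules.restrictFunctor U.ι).map (ε₀ U) =
      (Scheme.Modules.restrictUnitIso U.ι).inv := by
  have h := (CxOX.extZeroAdj U.ι).homEquiv_unit (X := Coh.structureModule (U : Scheme.{u}))
    (Y := Coh.structureModule X) (f := ε₀ U)
  rw [← h]
  exact Equiv.apply_symm_apply _ _

instance isIso_restrict_ε₀ : IsIso ((Scheme.Modules.restrictFunctor U.ι).map (ε₀ U)) := by
  haveI : IsIso ((CxOX.extZeroAdj U.ι).unit.app (Coh.structureModule (U : Scheme.{u}))) :=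
    (inferInstance : IsIso ((Groth.Agent.Lib.Helper5.ShriekProj.adjSh U).unit.app _))
  have h := unit_map_ε₀ U
  have h2 : (Scheme.Modules.restrictFunctor U.ι).map (ε₀ U) =
      inv ((CxOX.extZeroAdj U.ι).unit.app (Coh.structureModule (U : Scheme.{u}))) ≫
        (Scheme.Modules.restrictUnitIso U.ι).inv := by
    rw [← h, IsIso.inv_hom_id_assoc]
  rw [h2]
  infer_instance

/-- `j_! O_U [-n]` -/
noncomputable abbrev SS (n : ℤ) : DCoh.D X :=
  (DerivedCategory.singleFunctor X.Modules n).obj (WU U)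

/-- `O_X [-n]` -/
noncomputable abbrev OO (X : Scheme.{u}) (n : ℤ) : DCoh.D X :=
  (DerivedCategory.singleFunctor X.Modules n).obj (Coh.structureModule X)

/-- `j_! O_U [-n] ⟶ O_X [-n]` -/
noncomputable abbrev tt (n : ℤ) : SS U n ⟶ OO X n :=
  (DerivedCategory.singleFunctor X.Modules n).map (ε₀ U)

theorem isIso_restrictD_tt (n : ℤ) : IsIso ((DCoh.restrictD U.ι).map (tt U n)) := by
  have h := NatIso.isIso_map_iff
    ((Scheme.Modules.restrictFunctor U.ι).mapDerivedCategorySingleFunctor n) (ε₀ U)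
  have h2 : IsIso (((Scheme.Modules.restrictFunctor U.ι) ⋙
      DerivedCategory.singleFunctor (U : Scheme.{u}).Modules n).map (ε₀ U)) := by
    rw [Functor.comp_map]
    infer_instance
  exact h.2 h2

/-- `j_! O_U [-n] ≅ j_! (O_U [-n])` -/
noncomputable def ssIso (n : ℤ) :
    (CxOX.extZeroD U.ι).obj ((DerivedCategory.singleFunctor (U : Scheme.{u}).Modules n).obj
      (Coh.structureModule (U : Scheme.{u}))) ≅ SS U n :=
  ((CxOX.extZero U.ι).mapDerivedCategorySingleFunctor n).app _

/-- maps from `j_! O_U [-n]` to objects vanishing on `U` are zero -/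
theorem hom_SS_eq_zero (n : ℤ) (L' : DCoh.D X) (hL' : IsZero ((DCoh.restrictD U.ι).obj L'))
    (φ : SS U n ⟶ L') : φ = 0 := by
  have h1 : (ssIso U n).hom ≫ φ = 0 := by
    apply ((shriekAdj U).homEquiv _ _).injective
    exact hL'.eq_of_tgt _ _
  have h2 : (ssIso U n).inv ≫ (ssIso U n).hom ≫ φ = 0 := by rw [h1, comp_zero]
  simpa using h2

end Groth.Agent.Lib.Helper5.RHomQC
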