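import Mathlib
import Groth.Prelude.Def_DCoh4
import Groth.Agent.Lib.Helper5.LTen.PerfTensor
import Groth.Agent.Lib.Helper5.LTen.LTenAll
import Groth.Agent.Lib.Helper5.LTen.Coprod
import Groth.Agent.Lib.Helper5.Perf.PerfLocFree
import Groth.Agent.Lib.Lead.FLF1
import Groth.Agent.Lib.Helper5.RHomQC.Shriek1

/-!
# `O_X[-n]` is perfect, and so is `O_X[-n] ⊗^L K` for `K` perfect (helper5)
-/
set_option autoImplicit false
set_option linter.unusedSectionVars false
set_option linter.unusedVariables false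
universe u
open CategoryTheory CategoryTheory.Limits AlgebraicGeometry
attribute [local instance] HasDerivedCategory.standard

namespace Groth.Agent.Lib.Helper5.RHomQC

open Groth.Agent.Lib.Helper5.PerfTri Groth.Agent.Lib.Helper5.LocNull

variable {X : Scheme.{u}}

theorem isPerfect_Q_of_isStrictlyPerfect (E : CochainComplex X.Modules ℤ)
    (hE : DCoh.IsStrictlyPerfect E) : DCoh.IsPerfect (DerivedCategory.Q.obj E) := by
  apply isPerfect_of_LPD
  intro x
  refine ⟨X, 𝟙 X, inferInstance, ⟨x, rfl⟩, (RCx (𝟙 X)).obj E, isStrictlyPerfect_restrict (𝟙 X) hE,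
    ⟨(Scheme.Modules.restrictFunctor (𝟙 X)).mapDerivedCategoryFactors.app E⟩⟩

theorem isFinLocFree_structureModule (X : Scheme.{u}) :
    FlatMod.IsFinLocFree (Coh.structureModule X) :=
  Groth.Agent.Lib.Helper5.Shrink.isFinLocFree_of_iso_free _ 1
    (coproductUniqueIso (fun _ : Fin 1 => Coh.structureModule X)).symm

theorem isFinLocFree_of_isZero {M : X.Modules} (h : IsZero M) : FlatMod.IsFinLocFree M :=
  Groth.Agent.Lib.Helper5.Shrink.isFinLocFree_of_iso_free _ 0
    (h.iso (Groth.Agent.Lib.Helper5.Shrink.isZero_freeMod_zero X))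

/-- the complex `O_X[-n]` -/
noncomputable abbrev OCx (X : Scheme.{u}) (n : ℤ) : CochainComplex X.Modules ℤ :=
  (CochainComplex.singleFunctor X.Modules n).obj (Coh.structureModule X)

theorem isStrictlyPerfect_OCx (n : ℤ) : DCoh.IsStrictlyPerfect (OCx X n) := by
  refine ⟨⟨n, n, fun i hi => ?_⟩, fun i => ?_⟩
  · apply HomologicalComplex.isZero_single_obj_X
    rcases hi with hi | hi <;> omega
  · by_cases hi : i = n
    · subst hi
      exact Groth.Agent.Lead.FLF.isFinLocFree_of_iso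
        (HomologicalComplex.singleObjXSelf (ComplexShape.up ℤ) i (Coh.structureModule X)).symm
        (isFinLocFree_structureModule X)
    · exact isFinLocFree_of_isZero
        (HomologicalComplex.isZero_single_obj_X (ComplexShape.up ℤ) n _ i hi)

theorem isPerfect_OO (n : ℤ) : DCoh.IsPerfect (OO X n) :=
  isPerfect_Q_of_isStrictlyPerfect (OCx X n) (isStrictlyPerfect_OCx n)

/-- **`O_X[-n] ⊗^L K` is perfect for `K` perfect** -/
theorem isPerfect_ltensor_OO (K : CochainComplex X.Modules ℤ)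
    (hK : DCoh.IsPerfect (DCoh.toD X K)) [DCoh.HasLTensorCx K] (n : ℤ) :
    DCoh.IsPerfect ((DCoh.LTensorCx K).obj (OO X n)) := by
  have hfl : DCoh.IsKFlat (OCx X n) :=
    Groth.Agent.Lib.Helper5.LTenDer.isKFlat_of_isStrictlyPerfect _ (isStrictlyPerfect_OCx n)
  have e1 : (DCoh.LTensorCx K).obj (OO X n) ≅
      DerivedCategory.Q.obj ((DCoh.tensorCx.obj (OCx X n)).obj K) :=
    Groth.Agent.Lib.Helper5.LTenAll.ltensorObjIsoOfKFlat (E := K) (OCx X n) hfl
  have e2 : (DCoh.tensorCx.obj (OCx X n)).obj K ≅ (DCoh.tensorCx.obj K).obj (OCx X n) :=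
    Groth.Agent.Lib.Helper5.KFlatG.braid (ModSite.tensorBi X.sheaf)
      (Groth.Agent.Lib.Helper5.KFlatSiteQ.flipIso X.sheaf) (OCx X n) K
  have h := Groth.Agent.Lib.Helper5.PerfTensor.isPerfect_Q_tensor K (OCx X n) hfl hK
    (isPerfect_OO n)
  exact isPerfect_of_iso (e1 ≪≫ DerivedCategory.Q.mapIso e2).symm h

end Groth.Agent.Lib.Helper5.RHomQC
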