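import Mathlib

/-!
# The unit isomorphism for the total complex of a bifunctor with a unit object (helper5)

For an additive bifunctor `T` with an object `U` and a natural isomorphism `T.obj U ≅ 𝟭`, the
total complex of `T (U[0], K)` is isomorphic to `K`.
-/
set_option autoImplicit false
universe u
open CategoryTheory CategoryTheory.Limits HomologicalComplex

namespace Groth.Agent.Lib.Helper5.RHomQC

variable {A : Type*} [Category A] [Preadditive A] [HasZeroObject A]
  (T : A ⥤ A ⥤ A) [T.Additive] [∀ X : A, (T.obj X).Additive]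
  [∀ (K₁ K₂ : CochainComplex A ℤ), CochainComplex.HasMapBifunctor K₁ K₂ T]
  (U : A) (e : T.obj U ≅ 𝟭 A) (K : CochainComplex A ℤ)

/-- `U[0]` -/
noncomputable abbrev SU : CochainComplex A ℤ :=
  (HomologicalComplex.single A (ComplexShape.up ℤ) 0).obj U

/-- the projection `U[0]^p ⟶ U` (zero unless `p = 0`) -/
noncomputable def πU (p : ℤ) : (SU U).X p ⟶ U :=
  if h : p = 0 then (HomologicalComplex.singleObjXIsoOfEq (ComplexShape.up ℤ) 0 U p h).hom else 0

lemma πU_zero : πU U 0 = (HomologicalComplex.singleObjXSelf (ComplexShape.up ℤ) 0 U).hom := by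
  simp [πU, HomologicalComplex.singleObjXSelf]

lemma πU_ne (p : ℤ) (hp : p ≠ 0) : πU U p = 0 := by
  simp [πU, hp]

/-- the comparison of terms `K^q ⟶ K^n` (zero unless `q = n`) -/
noncomputable def κ (q n : ℤ) : K.X q ⟶ K.X n :=
  if h : q = n then (K.XIsoOfEq h).hom else 0

lemma κ_self (n : ℤ) : κ K n n = 𝟙 _ := by
  simp [κ, HomologicalComplex.XIsoOfEq]

/-- the map `K^n ⟶ Tot(T(U[0], K))^n` -/
noncomputable def unitHomF (n : ℤ) :
    K.X n ⟶ (mapBifunctor (SU U) K T (ComplexShape.up ℤ)).X n :=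
  e.inv.app (K.X n) ≫
    (T.map (HomologicalComplex.singleObjXSelf (ComplexShape.up ℤ) 0 U).inv).app (K.X n) ≫
    ιMapBifunctor (SU U) K T (ComplexShape.up ℤ) 0 n n (zero_add n)

/-- the map `Tot(T(U[0], K))^n ⟶ K^n` -/
noncomputable def unitInvF (n : ℤ) :
    (mapBifunctor (SU U) K T (ComplexShape.up ℤ)).X n ⟶ K.X n :=
  mapBifunctorDesc (fun p q _ => (T.map (πU U p)).app (K.X q) ≫ e.hom.app (K.X q) ≫ κ K q n)

lemma isZero_T_single (p q : ℤ) (hp : p ≠ 0) : IsZero ((T.obj ((SU U).X p)).obj (K.X q)) := by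
  have h0 : IsZero ((SU U).X p) :=
    HomologicalComplex.isZero_single_obj_X (ComplexShape.up ℤ) 0 U p hp
  have h1 : IsZero (T.obj ((SU U).X p)) := Functor.map_isZero T h0
  exact (Functor.isZero_iff _).1 h1 _

lemma σσ (X : A) :
    (T.map (HomologicalComplex.singleObjXSelf (ComplexShape.up ℤ) 0 U).inv).app X ≫
      (T.map (HomologicalComplex.singleObjXSelf (ComplexShape.up ℤ) 0 U).hom).app X = 𝟙 _ := by
  rw [← NatTrans.comp_app, ← Functor.map_comp, Iso.inv_hom_id, CategoryTheory.Functor.map_id,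
    NatTrans.id_app]

lemma σσ' (X : A) :
    (T.map (HomologicalComplex.singleObjXSelf (ComplexShape.up ℤ) 0 U).hom).app X ≫
      (T.map (HomologicalComplex.singleObjXSelf (ComplexShape.up ℤ) 0 U).inv).app X = 𝟙 _ := by
  rw [← NatTrans.comp_app, ← Functor.map_comp, Iso.hom_inv_id, CategoryTheory.Functor.map_id,
    NatTrans.id_app]

lemma unitHomF_unitInvF (n : ℤ) : unitHomF T U e K n ≫ unitInvF T U e K n = 𝟙 _ := by
  dsimp only [unitHomF, unitInvF]
  rw [Category.assoc, Category.assoc, ι_mapBifunctorDesc, πU_zero, κ_self]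
  erw [Category.comp_id]
  rw [reassoc_of% (σσ T U (K.X n)), Iso.inv_hom_id_app]
  rfl

lemma unitInvF_unitHomF (n : ℤ) : unitInvF T U e K n ≫ unitHomF T U e K n = 𝟙 _ := by
  apply mapBifunctor.hom_ext
  intro p q h
  have hpq : p + q = n := h
  by_cases hp : p = 0
  · subst hp
    obtain rfl : q = n := by omega
    dsimp only [unitHomF, unitInvF]
    rw [ι_mapBifunctorDesc_assoc, πU_zero, κ_self]
    erw [Category.comp_id]
    rw [Category.assoc, Iso.hom_inv_id_app_assoc, reassoc_of% (σσ' T U (K.X q)), Category.comp_id]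
  · exact (isZero_T_single T U K p q hp).eq_of_src _ _

lemma unitHomF_comm (n : ℤ) :
    unitHomF T U e K n ≫ (mapBifunctor (SU U) K T (ComplexShape.up ℤ)).d n (n + 1) =
      K.d n (n + 1) ≫ unitHomF T U e K (n + 1) := by
  have hrel : (ComplexShape.up ℤ).Rel n (n + 1) := rfl
  have hd₁ : mapBifunctor.d₁ (SU U) K T (ComplexShape.up ℤ) 0 n (n + 1) = 0 := by
    have h₁ : (ComplexShape.up ℤ).Rel 0 1 := by simp
    rw [mapBifunctor.d₁_eq (SU U) K T (ComplexShape.up ℤ) h₁ n (n + 1) (by simp; omega),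
      HomologicalComplex.single_obj_d, Functor.map_zero, zero_app, zero_comp, smul_zero]
  dsimp only [unitHomF]
  rw [Category.assoc, Category.assoc, mapBifunctor.d_eq, Preadditive.comp_add,
    mapBifunctor.ι_D₁, mapBifunctor.ι_D₂, hd₁, zero_add,
    mapBifunctor.d₂_eq (SU U) K T (ComplexShape.up ℤ) 0 hrel (n + 1) (zero_add (n + 1))]
  have hε : ComplexShape.ε₂ (ComplexShape.up ℤ) (ComplexShape.up ℤ) (ComplexShape.up ℤ)
      ((0 : ℤ), n) = 1 := by
    simp [ComplexShape.ε_zero]
  rw [hε, one_smul]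
  have h1 := e.inv.naturality (K.d n (n + 1))
  have h2 := (T.map (HomologicalComplex.singleObjXSelf (ComplexShape.up ℤ) 0 U).inv).naturality
    (K.d n (n + 1))
  simp only [Functor.id_obj, Functor.id_map] at h1
  rw [reassoc_of% h1, reassoc_of% h2]

/-- **the unit isomorphism** `K ≅ Tot(T(U[0], K))` -/
noncomputable def unitCxIso : K ≅ mapBifunctor (SU U) K T (ComplexShape.up ℤ) :=
  HomologicalComplex.Hom.isoOfComponents
    (fun n => { hom := unitHomF T U e K n
                inv := unitInvF T U e K n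
                hom_inv_id := unitHomF_unitInvF T U e K n
                inv_hom_id := unitInvF_unitHomF T U e K n })
    (by
      intro i j hij
      have : i + 1 = j := hij
      subst this
      exact unitHomF_comm T U e K i)

end Groth.Agent.Lib.Helper5.RHomQC
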