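import Mathlib
import Groth.Prelude.Def_DCoh4
import Groth.Agent.Lib.Helper5.RHomQC.UnitCx
import Groth.Agent.Lib.Helper5.RHomQC.PerfO
import Groth.Agent.Lib.Helper5.LTen.Invertible

/-!
# `O_X[0] ⊗^L F ≅ F` (helper5)
-/
set_option autoImplicit false
set_option linter.unusedSectionVars false
set_option linter.unusedVariables false
universe u
open CategoryTheory CategoryTheory.Limits AlgebraicGeometry
attribute [local instance] HasDerivedCategory.standard

namespace Groth.Agent.Lib.Helper5.RHomQC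

variable {X : Scheme.{u}}

/-- `O ⊗ - ≅ id` on `O_X`-modules -/
noncomputable def tensorBiUnitIso (X : Scheme.{u}) :
    (DCoh.tensorBi (X := X)).obj (Coh.structureModule X) ≅ 𝟭 X.Modules :=
  Groth.Agent.Lib.Helper5.InvMod.lunit X.sheaf

/-- `O[0] ⊗ F ≅ F` for complexes -/
noncomputable def tensorCxUnitIso (F : CochainComplex X.Modules ℤ) :
    F ≅ (DCoh.tensorCx.obj (OCx X 0)).obj F :=
  unitCxIso (DCoh.tensorBi (X := X)) (Coh.structureModule X) (tensorBiUnitIso X) F

/-- **`O_X[0] ⊗^L F ≅ F`** -/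
noncomputable def ltensorUnitIso (F : CochainComplex X.Modules ℤ) [DCoh.HasLTensorCx F] :
    (DCoh.LTensorCx F).obj (OO X 0) ≅ DerivedCategory.Q.obj F :=
  Groth.Agent.Lib.Helper5.LTenAll.ltensorObjIsoOfKFlat (E := F) (OCx X 0)
    (Groth.Agent.Lib.Helper5.LTenDer.isKFlat_of_isStrictlyPerfect _ (isStrictlyPerfect_OCx 0)) ≪≫
    DerivedCategory.Q.mapIso (tensorCxUnitIso F).symm

end Groth.Agent.Lib.Helper5.RHomQC
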