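import Mathlib
import Groth.Prelude.Def_DCoh4
import Groth.Agent.Lib.Helper5.ShriekProj.Der
import Groth.Agent.Lib.Helper5.RestrTen.RestrTenS
import Groth.Agent.Lib.Helper5.LTen.PerfTensor

/-!
# The derived tensor product commutes with restriction to an open subscheme (helper5)
-/
set_option autoImplicit false
set_option linter.unusedSectionVars false
set_option linter.unusedVariables false
set_option linter.style.haveILetI false
universe u
open CategoryTheory CategoryTheory.Limits AlgebraicGeometry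
open Groth.Agent.Lib.Helper5.DerQ
attribute [local instance] HasDerivedCategory.standard

namespace Groth.Agent.Lib.Helper5.RHomQC

open Groth.Agent.Lib.Helper5.ShriekProj

variable {X : Scheme.{u}} (V : X.Opens) (K : CochainComplex X.Modules ℤ)

/-- naturality of `restrictTotIso` in the first variable -/
lemma restrictTotIso_naturality {F F' : CochainComplex X.Modules ℤ} (a : F ⟶ F') :
    (DCoh.restrictCx V).map ((DCoh.tensorCx.map a).app K) ≫
        (Groth.Agent.Lib.Helper5.RestrTen.restrictTotIso V.ι F' K).hom =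
      (Groth.Agent.Lib.Helper5.RestrTen.restrictTotIso V.ι F K).hom ≫
        (DCoh.tensorCx.map ((DCoh.restrictCx V).map a)).app ((DCoh.restrictCx V).obj K) :=
  Groth.Agent.Lib.Helper5.TotFun.totIso_naturality₁ DCoh.tensorBi DCoh.tensorBi
    (Scheme.Modules.restrictFunctor V.ι) (Scheme.Modules.restrictFunctor V.ι)
    (Scheme.Modules.restrictFunctor V.ι)
    (fun P N => Groth.Agent.Lib.Helper5.RestrTen.restrictTensorIso V.ι P N)
    (fun f N => Groth.Agent.Lib.Helper5.RestrTen.restrictTensorIso_naturality_left V.ι f N)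
    (fun P _ _ g => Groth.Agent.Lib.Helper5.RestrTen.restrictTensorIso_naturality_right V.ι P g)
    a K

/-- restriction commutes with `- ⊗ K`, as a natural isomorphism -/
noncomputable def resNatIso :
    (DCoh.tensorCx (X := X)).flip.obj K ⋙ DCoh.restrictCx V ≅
      DCoh.restrictCx V ⋙ (DCoh.tensorCx (X := (V : Scheme.{u}))).flip.obj (KV V K) :=
  NatIso.ofComponents
    (fun F => Groth.Agent.Lib.Helper5.RestrTen.restrictTotIso V.ι F K)
    (fun a => restrictTotIso_naturality V K a)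

/-- `Q ⋙ j^* ≅ j^* ⋙ Q` -/
noncomputable abbrev facRs :
    DerivedCategory.Q ⋙ DCoh.restrictD V.ι ≅ DCoh.restrictCx V ⋙ DerivedCategory.Q :=
  (Rs V).mapDerivedCategoryFactors

/-- `N ↦ j^* Q (N ⊗ K)` -/
noncomputable abbrev R₁ : CochainComplex X.Modules ℤ ⥤ DCoh.D (V : Scheme.{u}) :=
  DCoh.tensorCxQ K ⋙ DCoh.restrictD V.ι

/-- `N ↦ Q (N|_V ⊗ K|_V)` -/
noncomputable abbrev R₂ : CochainComplex X.Modules ℤ ⥤ DCoh.D (V : Scheme.{u}) :=
  DCoh.restrictCx V ⋙ DCoh.tensorCxQ (KV V K)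

/-- the comparison between the underived functors -/
noncomputable def ρτ : R₁ V K ≅ R₂ V K :=
  Functor.associator _ _ _ ≪≫
    Functor.isoWhiskerLeft ((DCoh.tensorCx (X := X)).flip.obj K) (facRs V) ≪≫
    (Functor.associator _ _ _).symm ≪≫
    Functor.isoWhiskerRight (resNatIso V K) DerivedCategory.Q ≪≫ Functor.associator _ _ _

theorem adaptedR₁ : AdaptedQ (R₁ V K)
    (fun N : CochainComplex X.Modules ℤ => DCoh.IsKFlat N) where
  htpy f g hfg := by
    show (DCoh.restrictD V.ι).map ((DCoh.tensorCxQ K).map f) =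
      (DCoh.restrictD V.ι).map ((DCoh.tensorCxQ K).map g)
    rw [(Groth.Agent.Lib.Helper5.LTenAll.adaptedQ_tensorCxQ K).htpy f g hfg]
  res N := (Groth.Agent.Lib.Helper5.LTenAll.adaptedQ_tensorCxQ K).res N
  inv f hP hP' hf := by
    haveI := (Groth.Agent.Lib.Helper5.LTenAll.adaptedQ_tensorCxQ K).inv f hP hP' hf
    show IsIso ((DCoh.restrictD V.ι).map ((DCoh.tensorCxQ K).map f))
    infer_instance

theorem adaptedR₂ : AdaptedQ (R₂ V K)
    (fun N : CochainComplex X.Modules ℤ => DCoh.IsKFlat N) where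
  htpy f g hfg :=
    (Groth.Agent.Lib.Helper5.LTenAll.adaptedQ_tensorCxQ (KV V K)).htpy _ _
      ((Rs V).mapHomotopy hfg)
  res N := (Groth.Agent.Lib.Helper5.LTenAll.adaptedQ_tensorCxQ K).res N
  inv f hP hP' hf := by
    haveI : QuasiIso f := hf
    exact (Groth.Agent.Lib.Helper5.LTenAll.adaptedQ_tensorCxQ (KV V K)).inv
      ((DCoh.restrictCx V).map f)
      (Groth.Agent.Lib.Helper5.PerfTensor.isKFlat_restrict V.ι _ hP)
      (Groth.Agent.Lib.Helper5.PerfTensor.isKFlat_restrict V.ι _ hP') inferInstance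

variable [DCoh.HasLTensorCx K] [DCoh.HasLTensorCx (KV V K)]

/-- `(- ⊗^L K)|_V` -/
noncomputable abbrev H₁ : DCoh.D X ⥤ DCoh.D (V : Scheme.{u}) :=
  DCoh.LTensorCx K ⋙ DCoh.restrictD V.ι

/-- `(-)|_V ⊗^L K|_V` -/
noncomputable abbrev H₂ : DCoh.D X ⥤ DCoh.D (V : Scheme.{u}) :=
  DCoh.restrictD V.ι ⋙ DCoh.LTensorCx (KV V K)

/-- the comparison map for `H₁` -/
noncomputable def γ₁ : DerivedCategory.Q ⋙ H₁ V K ⟶ R₁ V K :=
  (Functor.associator _ _ _).inv ≫
    Functor.whiskerRight (Groth.Agent.Lib.Helper5.AssocD.ε K) (DCoh.restrictD V.ι)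

/-- the comparison map for `H₂` -/
noncomputable def γ₂ : DerivedCategory.Q ⋙ H₂ V K ⟶ R₂ V K :=
  (Functor.associator _ _ _).inv ≫
    Functor.whiskerRight (facRs V).hom (DCoh.LTensorCx (KV V K)) ≫
    (Functor.associator _ _ _).hom ≫
    Functor.whiskerLeft (DCoh.restrictCx V) (Groth.Agent.Lib.Helper5.AssocD.ε (KV V K))

lemma γ₁_app (N : CochainComplex X.Modules ℤ) :
    (γ₁ V K).app N =
      (DCoh.restrictD V.ι).map ((Groth.Agent.Lib.Helper5.AssocD.ε K).app N) := by
  dsimp [γ₁]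
  simp only [Category.id_comp]

lemma γ₂_app (N : CochainComplex X.Modules ℤ) :
    (γ₂ V K).app N = (DCoh.LTensorCx (KV V K)).map ((facRs V).hom.app N) ≫
      (Groth.Agent.Lib.Helper5.AssocD.ε (KV V K)).app ((DCoh.restrictCx V).obj N) := by
  dsimp [γ₂]
  simp only [Category.id_comp]

instance isLeftH₁ : (H₁ V K).IsLeftDerivedFunctor (γ₁ V K)
    (HomologicalComplex.quasiIso X.Modules (ComplexShape.up ℤ)) := by
  apply isLeftDerivedFunctor_of_isIso (adaptedR₁ V K)
  intro N hN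
  rw [γ₁_app]
  haveI : IsIso ((Groth.Agent.Lib.Helper5.AssocD.ε K).app N) :=
    isIso_counit_app (Groth.Agent.Lib.Helper5.LTenAll.adaptedQ_tensorCxQ K)
      (DCoh.LTensorCx K) _ _ hN
  infer_instance

instance isLeftH₂ : (H₂ V K).IsLeftDerivedFunctor (γ₂ V K)
    (HomologicalComplex.quasiIso X.Modules (ComplexShape.up ℤ)) := by
  apply isLeftDerivedFunctor_of_isIso (adaptedR₂ V K)
  intro N hN
  rw [γ₂_app]
  haveI : IsIso ((Groth.Agent.Lib.Helper5.AssocD.ε (KV V K)).app ((DCoh.restrictCx V).obj N)) :=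
    isIso_counit_app (Groth.Agent.Lib.Helper5.LTenAll.adaptedQ_tensorCxQ (KV V K))
      (DCoh.LTensorCx (KV V K)) _ _
      (Groth.Agent.Lib.Helper5.PerfTensor.isKFlat_restrict V.ι _ hN)
  infer_instance

/-- **the derived tensor product commutes with restriction to an open**:
`(M ⊗^L K)|_V ≅ M|_V ⊗^L K|_V`, naturally in `M` -/
noncomputable def resTenIso : H₁ V K ≅ H₂ V K :=
  Functor.leftDerivedNatIso (H₁ V K) (H₂ V K) (γ₁ V K) (γ₂ V K)
    (HomologicalComplex.quasiIso X.Modules (ComplexShape.up ℤ)) (ρτ V K)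

end Groth.Agent.Lib.Helper5.RHomQC
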