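import Mathlib

/-!
# Maps into a cone, tested against shifts of an object (helper5)
-/
set_option autoImplicit false
universe v u
open CategoryTheory CategoryTheory.Limits Pretriangulated

namespace Groth.Agent.Lib.Helper5.RHomQC

variable {C : Type u} [Category.{v} C] [Preadditive C] [HasZeroObject C] [HasShift C ℤ]
  [∀ n : ℤ, (shiftFunctor C n).Additive] [Pretriangulated C]

/-- maps from `S` to the cone of `f` vanish when `Hom(S, f)` is surjective and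
`Hom(S[-1], f)` is injective -/
theorem hom_cone_eq_zero' {K L N : C} (f : K ⟶ L) (g : L ⟶ N)
    (δ : N ⟶ K⟦(1 : ℤ)⟧) (hT : Triangle.mk f g δ ∈ distTriang C) (S : C)
    (hinj : Function.Injective (fun φ : S⟦(-1 : ℤ)⟧ ⟶ K => φ ≫ f))
    (hsurj : Function.Surjective (fun φ : S ⟶ K => φ ≫ f))
    (φ : S ⟶ N) : φ = 0 := by
  have h1 : φ ≫ δ = 0 := by
    let u := (shiftEquiv C (1 : ℤ)).unitIso
    let ψ : S⟦(-1 : ℤ)⟧ ⟶ K := (φ ≫ δ)⟦(-1 : ℤ)⟧' ≫ u.inv.app K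
    have h2 : ψ ≫ f = 0 := by
      have hn : u.inv.app K ≫ f = (f⟦(1 : ℤ)⟧')⟦(-1 : ℤ)⟧' ≫ u.inv.app L :=
        (u.inv.naturality f).symm
      have h3 : δ ≫ f⟦(1 : ℤ)⟧' = 0 := comp_distTriang_mor_zero₃₁ _ hT
      have e1 : ψ ≫ f = (φ ≫ δ)⟦(-1 : ℤ)⟧' ≫ (u.inv.app K ≫ f) := Category.assoc _ _ _
      have e2 : (φ ≫ δ)⟦(-1 : ℤ)⟧' ≫ ((f⟦(1 : ℤ)⟧')⟦(-1 : ℤ)⟧' ≫ u.inv.app L) =
          ((φ ≫ δ) ≫ f⟦(1 : ℤ)⟧')⟦(-1 : ℤ)⟧' ≫ u.inv.app L := by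
        rw [← Category.assoc, ← Functor.map_comp]
      refine e1.trans ((congrArg (fun t => (φ ≫ δ)⟦(-1 : ℤ)⟧' ≫ t) hn).trans (e2.trans ?_))
      rw [Category.assoc, h3, comp_zero, Functor.map_zero, zero_comp]
    have h5 : ψ = 0 := by
      apply hinj
      change ψ ≫ f = 0 ≫ f
      rw [h2, zero_comp]
    have h6 : (φ ≫ δ)⟦(-1 : ℤ)⟧' = 0 := by
      have e3 : u.inv.app K ≫ u.hom.app K = 𝟙 _ := u.inv_hom_id_app K
      have : (φ ≫ δ)⟦(-1 : ℤ)⟧' = ψ ≫ u.hom.app K :=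
        ((Category.comp_id _).symm.trans
          (congrArg (fun t => (φ ≫ δ)⟦(-1 : ℤ)⟧' ≫ t) e3.symm)).trans
          (Category.assoc _ _ _).symm
      exact this.trans ((congrArg (fun t => t ≫ u.hom.app K) h5).trans zero_comp)
    exact (shiftFunctor C (-1 : ℤ)).map_injective
      (h6.trans (Functor.map_zero _ _ _).symm)
  obtain ⟨φ', hφ'⟩ := Triangle.coyoneda_exact₃ _ hT φ h1
  obtain ⟨φ'', hφ''⟩ := hsurj φ'
  change φ = φ' ≫ g at hφ'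
  change φ'' ≫ f = φ' at hφ''
  have h7 : f ≫ g = 0 := comp_distTriang_mor_zero₁₂ _ hT
  have h8 : φ = φ'' ≫ (f ≫ g) := by
    rw [hφ', ← hφ'']
    exact Category.assoc _ _ _
  exact h8.trans ((congrArg (fun t => φ'' ≫ t) h7).trans comp_zero)

/-- if `Hom(G[n], f)` is bijective for all `n`, then all maps `G[n] ⟶ cone(f)` vanish -/
theorem hom_shift_cone_eq_zero {K L N : C} (f : K ⟶ L) (g : L ⟶ N)
    (δ : N ⟶ K⟦(1 : ℤ)⟧) (hT : Triangle.mk f g δ ∈ distTriang C) (G : C)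
    (hbij : ∀ n : ℤ, Function.Bijective (fun φ : G⟦n⟧ ⟶ K => φ ≫ f)) (n : ℤ)
    (φ : G⟦n⟧ ⟶ N) : φ = 0 := by
  refine hom_cone_eq_zero' f g δ hT (G⟦n⟧) ?_ (hbij n).2 φ
  -- transport injectivity along `(G[n])[-1] ≅ G[n - 1]`
  let σ : G⟦n - 1⟧ ≅ (G⟦n⟧)⟦(-1 : ℤ)⟧ :=
    (shiftFunctorAdd' C n (-1) (n - 1) (by omega)).app G
  intro a b hab
  have hab' : a ≫ f = b ≫ f := hab
  have h1 : σ.hom ≫ a = σ.hom ≫ b := by
    apply (hbij (n - 1)).1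
    change (σ.hom ≫ a) ≫ f = (σ.hom ≫ b) ≫ f
    rw [Category.assoc, Category.assoc, hab']
  exact (cancel_epi σ.hom).1 h1

end Groth.Agent.Lib.Helper5.RHomQC
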