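import Mathlib
import Groth.Prelude.Def_DCoh4
import Groth.Agent.Lib.Helper5.RHomQC.UnitTen
import Groth.Agent.Lib.Helper5.RHomQC.ConeHom2
import Groth.Agent.Lib.Helper5.Stalk.LpullAdj
import Groth.Agent.Lib.Helper5.Perf.Pull
import Groth.Agent.Lib.Helper5.BvdB.GenMV
import Groth.Agent.Lib.Helper5.QC.DQCTri

/-!
# Morphisms of `D_QCoh` are detected by `Rf_* RHom(F, -)`, `F` perfect (helper5)
-/
set_option autoImplicit false
set_option linter.unusedSectionVars false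
set_option linter.unusedVariables false
universe u
open CategoryTheory CategoryTheory.Limits AlgebraicGeometry Pretriangulated
attribute [local instance] HasDerivedCategory.standard

namespace Groth.Agent.Lib.Helper5.RHomQC

open Groth.Agent.Lib.Helper5.BvdB Groth.Agent.Lib.Helper5.QC Groth.Agent.Lib.Helper5.LpullLib
  Groth.Agent.Lib.Helper5.PerfTri

variable {X Y : Scheme.{u}}

/-- `Lf^* O_Y[0] ≅ O_X[0]` -/
noncomputable def lpullUnitIso (f : X ⟶ Y) [DCoh.HasLpull f] :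
    (DCoh.Lpull f).obj (OO Y 0) ≅ OO X 0 :=
  lpullObjIso f (OCx Y 0)
    ⟨Groth.Agent.Lib.Helper5.LTenDer.isKFlat_of_isStrictlyPerfect _ (isStrictlyPerfect_OCx 0),
      fun i => Groth.Agent.Lib.Helper5.Misc.StalkFlatSch.isFlat_of_flatMod _
        (Groth.Agent.Lib.Helper5.LTenDer.isFlat_of_isFinLocFree _
          ((isStrictlyPerfect_OCx (X := Y) 0).2 i))⟩ ≪≫
    DerivedCategory.Q.mapIso
      ((HomologicalComplex.singleMapHomologicalComplex (Scheme.Modules.pullback f)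
        (ComplexShape.up ℤ) 0).app _ ≪≫
      (HomologicalComplex.single _ _ 0).mapIso (Groth.Agent.Lib.Helper5.PerfPull.unitIso f))

variable [CompactSpace X] [QuasiSeparatedSpace X]

/-- **a morphism of `D_QCoh(X)` is an isomorphism if `Rf_* RHom(F, -)` maps it to an isomorphism
for every perfect `F`** -/
theorem isIso_of_isIso_rpush_rhom (f : X ⟶ Y) [DCoh.HasRpush f]
    [hT : ∀ F : CochainComplex X.Modules ℤ, DCoh.HasLTensorCx F]
    [hR : ∀ F : CochainComplex X.Modules ℤ, DCoh.HasRSheafHom F]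
    {A₁ A₂ : DCoh.D X} (h₁ : DCoh.IsQCohD A₁) (h₂ : DCoh.IsQCohD A₂) (φ : A₁ ⟶ A₂)
    (h : ∀ F : CochainComplex X.Modules ℤ, DCoh.IsPerfect (DCoh.toD X F) →
      IsIso ((DCoh.Rpush f).map ((DCoh.RSheafHom F).map φ))) :
    IsIso φ := by
  haveI : DCoh.HasLpull f := hasLpull f
  obtain ⟨P, hPperf, hPgen⟩ := exists_perfGen X
  -- the key bijections
  have hbij : ∀ n : ℤ, Function.Bijective (fun ψ : P⟦n⟧ ⟶ A₁ => ψ ≫ φ) := by
    intro n
    let F₀ : CochainComplex X.Modules ℤ := DerivedCategory.Q.objPreimage (P⟦n⟧)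
    let eF : DerivedCategory.Q.obj F₀ ≅ P⟦n⟧ := DerivedCategory.Q.objObjPreimageIso (P⟦n⟧)
    have hF₀ : DCoh.IsPerfect (DCoh.toD X F₀) := isPerfect_of_iso eF.symm (isPerfect_shift hPperf n)
    haveI := h F₀ hF₀
    let w : (DCoh.LTensorCx F₀).obj (OO X 0) ≅ P⟦n⟧ := ltensorUnitIso F₀ ≪≫ eF
    let adj1 := lpullRpushAdj f
    let adj2 := DCoh.RSheafHomAdj F₀
    let u : (DCoh.Lpull f).obj (OO Y 0) ≅ OO X 0 := lpullUnitIso f
    -- the comparison bijections
    let Φ : ∀ B : DCoh.D X, (P⟦n⟧ ⟶ B) ≃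
        (OO Y 0 ⟶ (DCoh.Rpush f).obj ((DCoh.RSheafHom F₀).obj B)) := fun B =>
      (Iso.homFromEquiv w).symm |>.trans (adj2.homEquiv (OO X 0) B) |>.trans
        (Iso.homFromEquiv u).symm |>.trans (adj1.homEquiv (OO Y 0) _)
    have hΦ : ∀ ψ : P⟦n⟧ ⟶ A₁, Φ A₂ (ψ ≫ φ) =
        Φ A₁ ψ ≫ (DCoh.Rpush f).map ((DCoh.RSheafHom F₀).map φ) := by
      intro ψ
      change adj1.homEquiv _ _ (u.hom ≫ adj2.homEquiv _ _ (w.hom ≫ ψ ≫ φ)) =
        adj1.homEquiv _ _ (u.hom ≫ adj2.homEquiv _ _ (w.hom ≫ ψ)) ≫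
          (DCoh.Rpush f).map ((DCoh.RSheafHom F₀).map φ)
      rw [← Adjunction.homEquiv_naturality_right, Category.assoc,
        ← Adjunction.homEquiv_naturality_right, Category.assoc]
    have hcomp : (fun ψ : P⟦n⟧ ⟶ A₁ => ψ ≫ φ) =
        fun ψ => (Φ A₂).symm (Φ A₁ ψ ≫ (DCoh.Rpush f).map ((DCoh.RSheafHom F₀).map φ)) := by
      funext ψ
      rw [← hΦ, Equiv.symm_apply_apply]
    rw [hcomp]
    refine (Φ A₂).symm.bijective.comp (Function.Bijective.comp ?_ (Φ A₁).bijective)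
    constructor
    · intro a b hab
      exact (cancel_mono _).1 hab
    · intro b
      exact ⟨b ≫ inv ((DCoh.Rpush f).map ((DCoh.RSheafHom F₀).map φ)),
        (Category.assoc _ _ _).trans ((congrArg (fun t => b ≫ t) (IsIso.inv_hom_id _)).trans
          (Category.comp_id _))⟩
  -- the cone vanishes
  obtain ⟨Z, g, δ, hZ⟩ := distinguished_cocone_triangle φ
  have hZq : DCoh.IsQCohD Z := isQCohD_of_triangle_right _ hZ h₁ h₂
  have hZ0 : IsZero Z := hPgen Z hZq (fun n ψ => hom_shift_cone_eq_zero φ g δ hZ P hbij n ψ)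
  exact (Triangle.isZero₃_iff_isIso₁ _ hZ).1 hZ0

end Groth.Agent.Lib.Helper5.RHomQC
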