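import Mathlib

/-!
# Transfer of bijectivity along localisations at an element (helper5)

Elementwise formulation: a linear map `ρ : H → H'` "is a localisation at `r`" if every element of
`H'` becomes, after multiplication by a power of `r`, the image of an element of `H` (`Surj`), and
every element of the kernel is killed by a power of `r` (`Inj`).
-/
set_option autoImplicit false
universe u v

namespace Groth.Agent.Lib.Helper5.RHomQC

variable {A : Type u} [CommRing A] (r : A)

/-- every element becomes, after multiplication by a power of `r`, an image -/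
def LocSurj {H H' : Type v} [AddCommGroup H] [AddCommGroup H'] [Module A H] [Module A H']
    (ρ : H → H') : Prop :=
  ∀ y : H', ∃ (k : ℕ) (x : H), ρ x = r ^ k • y

/-- every element of the kernel is killed by a power of `r` -/
def LocInj {H H' : Type v} [AddCommGroup H] [AddCommGroup H'] [Module A H] [Module A H']
    (ρ : H → H') : Prop :=
  ∀ x : H, ρ x = 0 → ∃ k : ℕ, r ^ k • x = 0

variable {H₁ H₁' H₂ H₂' : Type v} [AddCommGroup H₁] [AddCommGroup H₁'] [AddCommGroup H₂]
  [AddCommGroup H₂'] [Module A H₁] [Module A H₁'] [Module A H₂] [Module A H₂']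

/-- **transfer**: a map between two localisations at `r` inducing a bijection on the sources is a
bijection on the targets, provided `r` acts bijectively on the targets -/
theorem bijective_of_loc (ρ₁ : H₁ →ₗ[A] H₁') (ρ₂ : H₂ →ₗ[A] H₂') (c : H₁ →ₗ[A] H₂)
    (c' : H₁' →ₗ[A] H₂') (hcomm : ∀ x, c' (ρ₁ x) = ρ₂ (c x)) (hc : Function.Bijective c)
    (hs₁ : LocSurj r ρ₁) (hi₁ : LocInj r ρ₁) (hs₂ : LocSurj r ρ₂) (hi₂ : LocInj r ρ₂)
    (hr₁ : ∀ y : H₁', r • y = 0 → y = 0) (hr₁' : ∀ y : H₁', ∃ y', r • y' = y)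
    (hr₂ : ∀ y : H₂', r • y = 0 → y = 0) :
    Function.Bijective c' := by
  have hpow₁ : ∀ (k : ℕ) (y : H₁'), r ^ k • y = 0 → y = 0 := by
    intro k
    induction k with
    | zero => intro y hy; simpa using hy
    | succ k ih =>
      intro y hy
      rw [pow_succ, mul_smul] at hy
      exact hr₁ y (ih _ hy)
  have hpow₂ : ∀ (k : ℕ) (y : H₂'), r ^ k • y = 0 → y = 0 := by
    intro k
    induction k with
    | zero => intro y hy; simpa using hy
    | succ k ih =>
      intro y hy
      rw [pow_succ, mul_smul] at hy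
      exact hr₂ y (ih _ hy)
  have hdiv₁ : ∀ (k : ℕ) (y : H₁'), ∃ y', r ^ k • y' = y := by
    intro k
    induction k with
    | zero => intro y; exact ⟨y, by simp⟩
    | succ k ih =>
      intro y
      obtain ⟨y₁, hy₁⟩ := hr₁' y
      obtain ⟨y₂, hy₂⟩ := ih y₁
      exact ⟨y₂, by rw [pow_succ, mul_comm, mul_smul, hy₂, hy₁]⟩
  constructor
  · rw [injective_iff_map_eq_zero]
    intro y hy
    obtain ⟨k, x, hx⟩ := hs₁ y
    have h1 : ρ₂ (c x) = 0 := by rw [← hcomm, hx, map_smul, hy, smul_zero]
    obtain ⟨m, hm⟩ := hi₂ (c x) h1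
    have h2 : c (r ^ m • x) = 0 := by rw [map_smul, hm]
    have h3 : r ^ m • x = 0 := hc.1 (h2.trans (map_zero c).symm)
    have h4 : r ^ (m + k) • y = 0 := by
      rw [pow_add, mul_smul, ← hx, ← map_smul, h3, map_zero]
    exact hpow₁ _ y h4
  · intro z
    obtain ⟨k, w, hw⟩ := hs₂ z
    obtain ⟨x, rfl⟩ := hc.2 w
    obtain ⟨z', hz'⟩ := hdiv₁ k (ρ₁ x)
    refine ⟨z', ?_⟩
    rw [← sub_eq_zero]
    apply hpow₂ k
    rw [smul_sub, ← map_smul, hz', hcomm, hw, sub_self]

end Groth.Agent.Lib.Helper5.RHomQC
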