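import Mathlib
import Groth.Prelude.Def_DCoh3
import Groth.Prelude.Def_CxOX
import Groth.Agent.Lib.Helper5.QC.GenExact
import Groth.Agent.Lib.Helper5.QC.SecF
import Groth.Agent.Lib.Helper5.KInj.DerivedQ
import Groth.Agent.Lib.Helper5.Perf.RpushOpen

/-!
# The extensions by zero of the structure sheaves of a basis of opens generate `D(O_X)` (helper5)
-/
set_option autoImplicit false
set_option linter.unusedSectionVars false
set_option linter.unusedVariables false
universe w v u
open CategoryTheory CategoryTheory.Limits AlgebraicGeometry Opposite TopologicalSpace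

namespace Groth.Agent.Lib.Helper5.RHomQC

open Groth.Agent.Lib.Helper5.QC

section Abstract

variable {A : Type u} [Category.{v} A] [Abelian A] [HasDerivedCategory.{w} A]

open DerivedCategory

/-- a K-injective complex is exact in degree `j` if it receives no nonzero maps, in the derived
category, from the objects of a detecting family placed in degree `j` -/
theorem exactAt_of_hom_single {𝒲 : Set A} (h𝒲 : Detects 𝒲) (I : CochainComplex A ℤ)
    [I.IsKInjective] (j : ℤ)
    (h : ∀ W ∈ 𝒲, ∀ φ : Q.obj ((HomologicalComplex.single A (ComplexShape.up ℤ) j).obj W) ⟶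
      Q.obj I, φ = 0) : I.ExactAt j := by
  rw [HomologicalComplex.exactAt_iff' I (j - 1) j (j + 1) (by simp) (by simp)]
  apply exact_of_detects h𝒲
  intro W hW x hx
  change x ≫ I.d j (j + 1) = 0 at hx
  let z : (HomologicalComplex.single A (ComplexShape.up ℤ) j).obj W ⟶ I :=
    HomologicalComplex.mkHomFromSingle x (by
      intro k hk
      have : j + 1 = k := hk
      subst this
      exact hx)
  have hz : Q.map z = Q.map 0 := by rw [h W hW (Q.map z), Functor.map_zero]
  obtain ⟨ho⟩ := Helper5.KInj.nonempty_homotopy_of_Q_map_eq hz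
  refine ⟨(HomologicalComplex.singleObjXSelf (ComplexShape.up ℤ) j W).inv ≫ ho.hom j (j - 1), ?_⟩
  have h1 := ho.comm j
  have h2 : dNext j ho.hom = 0 := by
    rw [dNext_eq ho.hom (show (ComplexShape.up ℤ).Rel j (j + 1) from rfl)]
    rw [HomologicalComplex.single_obj_d, zero_comp]
  have h3 : prevD j ho.hom = ho.hom j (j - 1) ≫ I.d (j - 1) j :=
    prevD_eq ho.hom (show (ComplexShape.up ℤ).Rel (j - 1) j by simp)
  rw [h2, h3, HomologicalComplex.zero_f, add_zero, zero_add,
    HomologicalComplex.mkHomFromSingle_f] at h1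
  change ((HomologicalComplex.singleObjXSelf (ComplexShape.up ℤ) j W).inv ≫ ho.hom j (j - 1)) ≫
    I.d (j - 1) j = x
  rw [Category.assoc, ← h1, Iso.inv_hom_id_assoc]

/-- an object of the derived category represented by a K-injective complex is zero if it
receives no nonzero maps from the objects of a detecting family placed in arbitrary degrees -/
theorem isZero_of_hom_single {𝒲 : Set A} (h𝒲 : Detects 𝒲) (N : DerivedCategory A)
    (hres : ∃ I : CochainComplex A ℤ, I.IsKInjective ∧ Nonempty (N ≅ Q.obj I))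
    (h : ∀ W ∈ 𝒲, ∀ (j : ℤ) (φ : Q.obj ((HomologicalComplex.single A (ComplexShape.up ℤ) j).obj W)
      ⟶ N), φ = 0) : IsZero N := by
  obtain ⟨I, hI, ⟨e⟩⟩ := hres
  haveI := hI
  refine IsZero.of_iso ?_ e
  rw [isZero_Q_iff_acyclic']
  intro j
  apply exactAt_of_hom_single h𝒲
  intro W hW φ
  have h1 := h W hW j (φ ≫ e.inv)
  rw [← cancel_mono e.inv, h1, zero_comp]

open Pretriangulated in
/-- a morphism of the derived category inducing bijections on the maps from the objects of a
detecting family placed in arbitrary degrees is an isomorphism -/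
theorem isIso_of_bijective_hom_single {𝒲 : Set A} (h𝒲 : Detects 𝒲) {K L : DerivedCategory A}
    (f : K ⟶ L)
    (hres : ∀ N : DerivedCategory A,
      ∃ I : CochainComplex A ℤ, I.IsKInjective ∧ Nonempty (N ≅ Q.obj I))
    (h : ∀ W ∈ 𝒲, ∀ j : ℤ, Function.Bijective
      (fun φ : (singleFunctor A j).obj W ⟶ K => φ ≫ f)) : IsIso f := by
  obtain ⟨N, g, δ, hT⟩ := distinguished_cocone_triangle f
  refine (Triangle.isZero₃_iff_isIso₁ _ hT).1 ?_
  change IsZero N
  apply isZero_of_hom_single h𝒲 N (hres N)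
  intro W hW j φ
  change (singleFunctor A j).obj W ⟶ N at φ
  -- the composite `φ ≫ δ` vanishes
  have h1 : φ ≫ δ = 0 := by
    let σ : (singleFunctor A (j + 1)).obj W ≅ ((singleFunctor A j).obj W)⟦(-1 : ℤ)⟧ :=
      ((singleFunctors A).shiftIso (-1) (j + 1) j (by lia)).symm.app W
    let u := (shiftEquiv (DerivedCategory A) (1 : ℤ)).unitIso
    let ψ : ((singleFunctor A j).obj W)⟦(-1 : ℤ)⟧ ⟶ K := (φ ≫ δ)⟦(-1 : ℤ)⟧' ≫ u.inv.app K
    have h2 : ψ ≫ f = 0 := by
      have hn : u.inv.app K ≫ f = (f⟦(1 : ℤ)⟧')⟦(-1 : ℤ)⟧' ≫ u.inv.app L :=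
        (u.inv.naturality f).symm
      have h3 : δ ≫ f⟦(1 : ℤ)⟧' = 0 := comp_distTriang_mor_zero₃₁ _ hT
      have e1 : ψ ≫ f = (φ ≫ δ)⟦(-1 : ℤ)⟧' ≫ (u.inv.app K ≫ f) := Category.assoc _ _ _
      have e2 : (φ ≫ δ)⟦(-1 : ℤ)⟧' ≫ ((f⟦(1 : ℤ)⟧')⟦(-1 : ℤ)⟧' ≫ u.inv.app L) =
          ((φ ≫ δ) ≫ f⟦(1 : ℤ)⟧')⟦(-1 : ℤ)⟧' ≫ u.inv.app L := by
        rw [← Category.assoc, ← Functor.map_comp]
      refine e1.trans ((congrArg (fun t => (φ ≫ δ)⟦(-1 : ℤ)⟧' ≫ t) hn).trans (e2.trans ?_))
      rw [Category.assoc, h3, comp_zero, Functor.map_zero, zero_comp]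
    have h4 : σ.hom ≫ ψ = 0 := by
      apply (h W hW (j + 1)).1
      change (σ.hom ≫ ψ) ≫ f = 0 ≫ f
      rw [Category.assoc, h2, comp_zero, zero_comp]
    have h5 : ψ = 0 := by
      rw [← cancel_epi σ.hom, h4, comp_zero]
    have h6 : (φ ≫ δ)⟦(-1 : ℤ)⟧' = 0 := by
      have e3 : u.inv.app K ≫ u.hom.app K = 𝟙 _ := u.inv_hom_id_app K
      have : (φ ≫ δ)⟦(-1 : ℤ)⟧' = ψ ≫ u.hom.app K :=
        ((Category.comp_id _).symm.trans
          (congrArg (fun t => (φ ≫ δ)⟦(-1 : ℤ)⟧' ≫ t) e3.symm)).trans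
          (Category.assoc _ _ _).symm
      exact this.trans ((congrArg (fun t => t ≫ u.hom.app K) h5).trans zero_comp)
    exact (shiftFunctor (DerivedCategory A) (-1 : ℤ)).map_injective
      (h6.trans (Functor.map_zero _ _ _).symm)
  obtain ⟨φ', hφ'⟩ := Triangle.coyoneda_exact₃ _ hT φ h1
  obtain ⟨φ'', hφ''⟩ := (h W hW j).2 φ'
  change φ = φ' ≫ g at hφ'
  change φ'' ≫ f = φ' at hφ''
  have h7 : f ≫ g = 0 := comp_distTriang_mor_zero₁₂ _ hT
  have h8 : φ = φ'' ≫ (f ≫ g) := by
    rw [hφ', ← hφ'']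
    exact Category.assoc _ _ _
  exact h8.trans ((congrArg (fun t => φ'' ≫ t) h7).trans comp_zero)

end Abstract

section Scheme

variable {X : Scheme.{u}}

/-- a morphism of modules vanishing on sections over the opens of a basis is zero -/
theorem hom_eq_zero_of_basis {𝔹 : Set X.Opens} (h𝔹 : Opens.IsBasis 𝔹) {M N : X.Modules}
    (f : M ⟶ N) (h : ∀ U ∈ 𝔹, ∀ s : M.presheaf.obj (op U), f.app U s = 0) : f = 0 := by
  apply Scheme.Modules.hom_ext
  intro V
  ext m
  show f.app V m = 0
  refine TopCat.Presheaf.IsSheaf.section_ext N.isSheaf (U := op V) (s := f.app V m) (t := 0) ?_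
  intro y hy
  obtain ⟨U, hU, hyU, hUV⟩ := Opens.isBasis_iff_nbhd.1 h𝔹 hy
  refine ⟨U, hUV, hyU, ?_⟩
  have hnat := congr($(f.mapPresheaf.naturality (homOfLE hUV).op).hom m)
  rw [map_zero]
  exact hnat.symm.trans (h U hU _)

/-- the extensions by zero of the structure sheaves of the opens in `𝔹` -/
def shriekFam (𝔹 : Set X.Opens) : Set X.Modules :=
  {W | ∃ U ∈ 𝔹, W = (CxOX.extZero U.ι).obj (Coh.structureModule (U : Scheme.{u}))}

/-- the section of `M|_U` attached to an element of `Γ(M, U)` -/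
noncomputable def sectionOf (U : X.Opens) (M : X.Modules) (s : M.presheaf.obj (op U)) :
    (M.restrict U.ι).sections :=
  PresheafOfModules.sectionsMk
    (fun V => M.presheaf.map (homOfLE (show U.ι ''ᵁ V.unop ≤ U by
      simpa using U.ι.image_le_opensRange V.unop)).op s)
    (fun V V' g => by
      change (M.presheaf.map _ ≫ M.presheaf.map _) s = _
      rw [← Functor.map_comp]
      rfl)

/-- the family detects the vanishing of morphisms -/
theorem detects_shriekFam {𝔹 : Set X.Opens} (h𝔹 : Opens.IsBasis 𝔹) : Detects (shriekFam 𝔹) := by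
  intro M N f hf
  apply hom_eq_zero_of_basis h𝔹
  intro U hU s
  let σ := sectionOf U M s
  let g' : Coh.structureModule (U : Scheme.{u}) ⟶ M.restrict U.ι :=
    (SheafOfModules.unitHomEquiv _).symm σ
  let g := ((CxOX.extZeroAdj U.ι).homEquiv _ _).symm g'
  have h1 : g ≫ f = 0 := hf _ ⟨U, hU, rfl⟩ g
  have h2 : g' ≫ (Scheme.Modules.restrictFunctor U.ι).map f = 0 := by
    have := (CxOX.extZeroAdj U.ι).homEquiv_naturality_right g f
    rw [h1] at this
    have h3 : ((CxOX.extZeroAdj U.ι).homEquiv _ _) g = g' := Equiv.apply_symm_apply _ _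
    rw [h3] at this
    rw [← this]
    exact (CxOX.extZeroAdj U.ι).homAddEquiv_zero _ _
  have h3 : (SheafOfModules.unitHomEquiv (N.restrict U.ι))
      (0 : Coh.structureModule (U : Scheme.{u}) ⟶ N.restrict U.ι) =
      PresheafOfModules.sectionsMap ((Scheme.Modules.restrictFunctor U.ι).map f).val σ := by
    have e1 : (SheafOfModules.unitHomEquiv (M.restrict U.ι)) g' = σ := Equiv.apply_symm_apply _ _
    rw [← h2]
    exact congrArg
      (PresheafOfModules.sectionsMap ((Scheme.Modules.restrictFunctor U.ι).map f).val) e1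
  have h4 := congrArg (fun t => t.val (op ⊤)) h3
  have hle : U.ι ''ᵁ ⊤ ≤ U := by simp
  have hle' : U ≤ U.ι ''ᵁ ⊤ := by simp
  have h5 : f.app (U.ι ''ᵁ ⊤) (M.presheaf.map (homOfLE hle).op s) = 0 := h4.symm
  have hnat := congr($(f.mapPresheaf.naturality (homOfLE hle).op).hom s)
  have h6 : N.presheaf.map (homOfLE hle).op (f.app U s) = 0 := hnat.symm.trans h5
  have h7 := congrArg (N.presheaf.map (homOfLE hle').op) h6
  rw [map_zero] at h7
  rw [← h7]
  change f.app U s = (N.presheaf.map (homOfLE hle).op ≫ N.presheaf.map (homOfLE hle').op) (f.app U s)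
  rw [← Functor.map_comp]
  have : (homOfLE hle).op ≫ (homOfLE hle').op = 𝟙 (op U) := rfl
  rw [this, CategoryTheory.Functor.map_id]
  rfl

attribute [local instance] HasDerivedCategory.standard

/-- **the extensions by zero of the structure sheaves of the opens of a basis generate
`D(O_X)`** -/
theorem isIso_of_bijective_hom_shriek {𝔹 : Set X.Opens} (h𝔹 : Opens.IsBasis 𝔹)
    {K L : DCoh.D X} (f : K ⟶ L)
    (h : ∀ U ∈ 𝔹, ∀ j : ℤ, Function.Bijective
      (fun φ : (DerivedCategory.singleFunctor X.Modules j).obj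
        ((CxOX.extZero U.ι).obj (Coh.structureModule (U : Scheme.{u}))) ⟶ K => φ ≫ f)) :
    IsIso f :=
  isIso_of_bijective_hom_single (detects_shriekFam h𝔹) f
    (fun N => Groth.Agent.Lib.Helper5.RpushOpen.exists_kInjective_repr N)
    (by
      rintro W ⟨U, hU, rfl⟩ j
      exact h U hU j)

end Scheme

end Groth.Agent.Lib.Helper5.RHomQC
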