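import Mathlib
import Groth.Agent.Lib.Helper5.DCenter.Basic

/-!
# Central elements and single complexes (helper5)
-/
set_option autoImplicit false
universe w u v
open CategoryTheory CategoryTheory.Limits

namespace Groth.Agent.Lib.Helper5.RHomQC

open Groth.Agent.Lib.Helper5.DCenter

variable {A : Type u} [Category.{v} A] [Abelian A]

theorem centerC_single (z : 𝟭 A ⟶ 𝟭 A) (n : ℤ) (W : A) :
    (centerC z).app ((CochainComplex.singleFunctor A n).obj W) =
      (CochainComplex.singleFunctor A n).map (z.app W) := by
  refine HomologicalComplex.hom_ext _ _ (fun i => ?_)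
  by_cases hi : i = n
  · subst hi
    change z.app (((HomologicalComplex.single A (ComplexShape.up ℤ) i).obj W).X i) =
      ((HomologicalComplex.single A (ComplexShape.up ℤ) i).map (z.app W)).f i
    rw [HomologicalComplex.single_map_f_self]
    have h := z.naturality (HomologicalComplex.singleObjXSelf (ComplexShape.up ℤ) i W).hom
    simp only [Functor.id_obj, Functor.id_map] at h
    change _ = (HomologicalComplex.singleObjXSelf (ComplexShape.up ℤ) i W).hom ≫
      z.app W ≫ (HomologicalComplex.singleObjXSelf (ComplexShape.up ℤ) i W).inv
    rw [reassoc_of% h, Iso.hom_inv_id, Category.comp_id]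
  · apply IsZero.eq_of_src
    exact HomologicalComplex.isZero_single_obj_X (ComplexShape.up ℤ) n W i hi

variable [HasDerivedCategory.{w} A]

theorem centerD_single (z : 𝟭 A ⟶ 𝟭 A) (n : ℤ) (W : A) :
    (centerD z).app ((DerivedCategory.singleFunctor A n).obj W) =
      (DerivedCategory.singleFunctor A n).map (z.app W) := by
  change (centerD z).app (DerivedCategory.Q.obj ((CochainComplex.singleFunctor A n).obj W)) =
    DerivedCategory.Q.map ((CochainComplex.singleFunctor A n).map (z.app W))
  rw [centerD_app_Q, centerC_single]

end Groth.Agent.Lib.Helper5.RHomQC
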