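import Mathlib
import Groth.Prelude.Def_DCoh3
import Groth.Prelude.Def_CxOX
import Groth.Agent.Lib.Helper5.RHomQC.Shriek1
import Groth.Agent.Lib.Helper5.RHomQC.CenterSingle

/-!
# Multiplication by `a` on `j_! O_U [-n]` for `U = X_a` is invertible (helper5)
-/
set_option autoImplicit false
set_option linter.unusedSectionVars false
set_option linter.unusedVariables false
universe u
open CategoryTheory CategoryTheory.Limits AlgebraicGeometry
attribute [local instance] HasDerivedCategory.standard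

namespace Groth.Agent.Lib.Helper5.RHomQC

open Groth.Agent.Lib.Helper5.BvdB Groth.Agent.Lib.Helper5.DCenter

attribute [local instance] preservesFiniteLimits_extZero

variable {X : Scheme.{u}}

/-- multiplication by a global function on an extension by zero -/
theorem mulΓ_extZero (U : X.Opens) (r : Coh.Γtop X) (N : (U : Scheme.{u}).Modules) :
    (mulΓ r).app ((CxOX.extZero U.ι).obj N) =
      (CxOX.extZero U.ι).map ((mulΓ (X := (U : Scheme.{u})) (U.ι.appTop.hom r)).app N) := by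
  apply ((CxOX.extZeroAdj U.ι).homEquiv _ _).injective
  rw [Adjunction.homEquiv_unit, Adjunction.homEquiv_unit, restrict_mulΓ U.ι r]
  have h1 := (mulΓ (X := (U : Scheme.{u})) (U.ι.appTop.hom r)).naturality
    ((CxOX.extZeroAdj U.ι).unit.app N)
  have h2 := (CxOX.extZeroAdj U.ι).unit.naturality
    ((mulΓ (X := (U : Scheme.{u})) (U.ι.appTop.hom r)).app N)
  simp only [Functor.id_obj, Functor.id_map, Functor.comp_obj, Functor.comp_map] at h1 h2
  exact h1.trans h2

theorem isUnit_appTop_basicOpen (r : Γ(X, ⊤)) :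
    IsUnit ((X.basicOpen r).ι.appTop.hom r) := by
  have h1 := X.toRingedSpace.isUnit_res_basicOpen r
  have e : (X.basicOpen r).ι ''ᵁ ⊤ = X.basicOpen r := Scheme.Opens.ι_image_top _
  have h2 := h1.map (X.presheaf.map (eqToHom e).op).hom
  have h3 : X.presheaf.map (homOfLE (x := (X.basicOpen r).ι ''ᵁ ⊤) le_top).op =
      X.presheaf.map (homOfLE (X.toRingedSpace.basicOpen_le r)).op ≫
        X.presheaf.map (eqToHom e).op := by
    rw [← Functor.map_comp]
    rfl
  change IsUnit ((X.presheaf.map (homOfLE (x := (X.basicOpen r).ι ''ᵁ ⊤) le_top).op).hom r)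
  rw [h3]
  exact h2

theorem isIso_mulΓ_of_isUnit {Y : Scheme.{u}} (s : Coh.Γtop Y) (hs : IsUnit s) (N : Y.Modules) :
    IsIso ((mulΓ s).app N) := by
  obtain ⟨s', rfl⟩ := hs
  refine ⟨(mulΓ (↑s'⁻¹ : Coh.Γtop Y)).app N, ?_, ?_⟩
  · change Formal.smulModΓ N (↑s' : Coh.Γtop Y) ≫ Formal.smulModΓ N (↑s'⁻¹ : Coh.Γtop Y) = 𝟙 N
    exact (KLin.smulModΓ_mul N _ _).symm.trans
      ((congrArg (Formal.smulModΓ N) (Units.mul_inv s')).trans (KLin.smulModΓ_one N))
  · change Formal.smulModΓ N (↑s'⁻¹ : Coh.Γtop Y) ≫ Formal.smulModΓ N (↑s' : Coh.Γtop Y) = 𝟙 N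
    exact (KLin.smulModΓ_mul N _ _).symm.trans
      ((congrArg (Formal.smulModΓ N) (Units.inv_mul s')).trans (KLin.smulModΓ_one N))

/-- multiplication by `r` on `j_! N` is invertible, `j : X_r ⟶ X` -/
theorem isIso_mulΓ_extZero (r : Γ(X, ⊤)) (N : ((X.basicOpen r : X.Opens) : Scheme.{u}).Modules) :
    IsIso ((mulΓ (X := X) r).app ((CxOX.extZero (X.basicOpen r).ι).obj N)) := by
  rw [mulΓ_extZero]
  haveI := isIso_mulΓ_of_isUnit _ (isUnit_appTop_basicOpen r) N
  infer_instance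

variable (A : Type u) [CommRing A] [X.Over (Spec (CommRingCat.of A))] (a : A)

/-- multiplication by `a` on `j_! O_U [-n]` is invertible, `U = X_a` -/
theorem isIso_smul_id_SS (n : ℤ) : IsIso (a • 𝟙 (SS (nzl (X := X) A a) n)) := by
  rw [smul_id_eq A a, centerD_single]
  haveI := isIso_mulΓ_extZero (X := X) (gf A a)
    (Coh.structureModule ((nzl (X := X) A a : X.Opens) : Scheme.{u}))
  infer_instance

theorem smul_hom_SS_injective (n : ℤ) {Y : DCoh.D X} (y : SS (nzl (X := X) A a) n ⟶ Y)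
    (hy : (a • y : SS (nzl (X := X) A a) n ⟶ Y) = 0) : y = 0 := by
  haveI := isIso_smul_id_SS (X := X) A a n
  have h : (a • 𝟙 (SS (nzl (X := X) A a) n)) ≫ y = 0 := by
    rw [Linear.smul_comp, Category.id_comp, hy]
  have h2 : inv (a • 𝟙 (SS (nzl (X := X) A a) n)) ≫ (a • 𝟙 (SS (nzl (X := X) A a) n)) ≫ y = 0 := by
    rw [h, comp_zero]
  rwa [IsIso.inv_hom_id_assoc] at h2

theorem smul_hom_SS_surjective (n : ℤ) {Y : DCoh.D X} (y : SS (nzl (X := X) A a) n ⟶ Y) :
    ∃ y' : SS (nzl (X := X) A a) n ⟶ Y, (a • y' : SS (nzl (X := X) A a) n ⟶ Y) = y := by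
  haveI := isIso_smul_id_SS (X := X) A a n
  refine ⟨inv (a • 𝟙 (SS (nzl (X := X) A a) n)) ≫ y, ?_⟩
  have h : a • (inv (a • 𝟙 (SS (nzl (X := X) A a) n)) ≫ y) =
      (a • 𝟙 (SS (nzl (X := X) A a) n)) ≫ inv (a • 𝟙 (SS (nzl (X := X) A a) n)) ≫ y := by
    rw [Linear.smul_comp, Category.id_comp]
  rw [h, IsIso.hom_inv_id_assoc]

end Groth.Agent.Lib.Helper5.RHomQC
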