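import Mathlib
import Groth.Prelude.Def_DCoh4
import Groth.Prelude.Def_KLin
import Groth.Agent.Lib.Helper5.Misc.TensorSheaf
import Groth.Agent.Lib.Helper5.LTen.Flf
import Groth.Agent.Lib.Helper5.DCenter.Sch
import Groth.Agent.Lib.Helper5.LTen.LTenAll
import Groth.Agent.Lib.Helper5.LTen.AssocD

/-!
# The tensor product is linear over global functions (helper5)
-/
set_option autoImplicit false
set_option linter.unusedSectionVars false
set_option linter.unusedVariables false
universe u
open CategoryTheory CategoryTheory.Limits AlgebraicGeometry MonoidalCategory Opposite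
  TopologicalSpace
attribute [local instance] HasDerivedCategory.standard

namespace Groth.Agent.Lib.Helper5.RHomQC

open Groth.Agent.Lib.Helper5.TensorSheaf

variable {X : Scheme.{u}}

/-- the restriction of a global function, typed as a scalar for presheaves of modules -/
noncomputable abbrev rU (U : (Opens X)ᵒᵖ) (r : Coh.Γtop X) :
    ((X.sheaf.obj ⋙ forget₂ CommRingCat RingCat.{u}).obj U) := Coh.resTop X U r

/-- multiplication by a global function on a presheaf of modules -/
noncomputable def smulP (P : PM X.sheaf) (r : Coh.Γtop X) : P ⟶ P :=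
  PresheafOfModules.homMk
    { app := fun U => AddCommGrpCat.ofHom
        (DistribSMul.toAddMonoidHom (P.obj U) (rU U r))
      naturality := by
        intro U V f
        ext m
        change rU V r • (P.map f).hom m = (P.map f).hom (rU U r • m)
        have h : rU V r = ((X.sheaf.obj ⋙ forget₂ CommRingCat RingCat.{u}).map f).hom (rU U r) :=
          (Coh.resTop_comp U V f r).symm
        rw [h]
        exact (P.map_smul f (rU U r) m).symm }
    (by
      intro U s m
      change rU U r • (s • m) = s • (rU U r • m)
      rw [← mul_smul, ← mul_smul]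
      congr 1
      exact @mul_comm Γ(X, Opposite.unop U) _ (Coh.resTop X U r) s)

lemma smulP_app_apply (P : PM X.sheaf) (r : Coh.Γtop X) (U : (Opens X)ᵒᵖ) (m : P.obj U) :
    (smulP P r).app U m = rU U r • m := rfl

/-- multiplication by a global function on a module is induced by the presheaf level one -/
lemma smulModΓ_val (M : X.Modules) (r : Coh.Γtop X) :
    (Formal.smulModΓ M r).val = smulP M.val r := rfl

/-- multiplication by a global function commutes with morphisms of presheaves of modules -/
lemma smulP_naturality {P Q : PM X.sheaf} (f : P ⟶ Q) (r : Coh.Γtop X) :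
    f ≫ smulP Q r = smulP P r ≫ f := by
  apply PresheafOfModules.hom_ext
  intro U
  ext m
  change rU U r • f.app U m = f.app U (rU U r • m)
  exact ((f.app U).hom.map_smul _ _).symm

/-- multiplication by a global function on a tensor product is multiplication on the first
factor -/
lemma smulP_whiskerRight (P Q : PM X.sheaf) (r : Coh.Γtop X) :
    smulP P r ▷ Q = smulP (P ⊗ Q) r := by
  apply PresheafOfModules.hom_ext
  intro U
  apply ModuleCat.MonoidalCategory.tensor_ext
  intro m n
  rfl

/-- sheafification is compatible with multiplication by global functions -/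
lemma shf_map_smulP (P : PM X.sheaf) (r : Coh.Γtop X) :
    (shf X.sheaf).map (smulP P r) =
      (Formal.smulModΓ (X := X) ((shf X.sheaf).obj P) r : (shf X.sheaf).obj P ⟶ (shf X.sheaf).obj P) := by
  apply ((adj X.sheaf).homEquiv P _).injective
  rw [Adjunction.homEquiv_unit, Adjunction.homEquiv_unit]
  have h1 := (adj X.sheaf).unit.naturality (smulP P r)
  have h3 := smulP_naturality ((unit' X.sheaf).app P) r
  exact h1.symm.trans h3.symm

/-- **the tensor product is linear over global functions in the first variable** -/
theorem tensorBi_map_smul (M N : X.Modules) (r : Coh.Γtop X) :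
    (DCoh.tensorBi.map (Formal.smulModΓ M r)).app N =
      Formal.smulModΓ ((DCoh.tensorBi.obj M).obj N) r := by
  have h1 : (DCoh.tensorBi.map (Formal.smulModΓ M r)).app N =
      (shf X.sheaf).map (smulP ((fgt X.sheaf).obj M) r ▷ (fgt X.sheaf).obj N) := rfl
  rw [h1, smulP_whiskerRight]
  exact shf_map_smulP _ r

open Groth.Agent.Lib.Helper5.DCenter HomologicalComplex

/-- **the tensor product of complexes is linear over global functions in the first variable** -/
theorem tensorCx_map_center (P K : CochainComplex X.Modules ℤ) (r : Coh.Γtop X) :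
    (DCoh.tensorCx.map ((centerC (mulΓ r)).app P)).app K =
      (centerC (mulΓ r)).app ((DCoh.tensorCx.obj P).obj K) := by
  refine HomologicalComplex.hom_ext _ _ (fun n => ?_)
  apply HomologicalComplex.mapBifunctor.hom_ext
  intro p q hpq
  have h1 := ι_mapBifunctorMap ((centerC (mulΓ r)).app P) (𝟙 K) DCoh.tensorBi
    (ComplexShape.up ℤ) p q n hpq
  rw [HomologicalComplex.id_f, CategoryTheory.Functor.map_id, Category.id_comp] at h1
  have h2 : (mulΓ r).app ((DCoh.tensorBi.obj (P.X p)).obj (K.X q)) ≫
      ιMapBifunctor P K DCoh.tensorBi (ComplexShape.up ℤ) p q n hpq =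
      ιMapBifunctor P K DCoh.tensorBi (ComplexShape.up ℤ) p q n hpq ≫
        (mulΓ r).app ((mapBifunctor P K DCoh.tensorBi (ComplexShape.up ℤ)).X n) :=
    ((mulΓ r).naturality (ιMapBifunctor P K DCoh.tensorBi (ComplexShape.up ℤ) p q n hpq)).symm
  have h3 : (DCoh.tensorBi.map (((centerC (mulΓ r)).app P).f p)).app (K.X q) =
      (mulΓ r).app ((DCoh.tensorBi.obj (P.X p)).obj (K.X q)) :=
    tensorBi_map_smul (P.X p) (K.X q) r
  exact h1.trans ((congrArg (fun t => t ≫ ιMapBifunctor P K DCoh.tensorBi (ComplexShape.up ℤ)
    p q n hpq) h3).trans h2)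

/-- **the derived tensor product is linear over global functions** -/
theorem ltensor_map_center (K : CochainComplex X.Modules ℤ) [DCoh.HasLTensorCx K]
    (r : Coh.Γtop X) (T : DCoh.D X) :
    (DCoh.LTensorCx K).map ((mulΓD r).app T) = (mulΓD r).app ((DCoh.LTensorCx K).obj T) := by
  obtain ⟨P, hP, ⟨e⟩, _⟩ := Groth.Agent.Lib.Helper5.LTenAll.exists_ltensor_iso K T
  let F := DCoh.LTensorCx K
  let α := (Groth.Agent.Lib.Helper5.AssocD.ε K).app P
  haveI : IsIso α :=
    Groth.Agent.Lib.Helper5.DerQ.isIso_counit_app
      (Groth.Agent.Lib.Helper5.LTenAll.adaptedQ_tensorCxQ K) (DCoh.LTensorCx K) _ P hP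
  have key : F.map ((mulΓD r).app (DerivedCategory.Q.obj P)) =
      (mulΓD r).app (F.obj (DerivedCategory.Q.obj P)) := by
    rw [← cancel_mono α]
    have h1 : F.map (DerivedCategory.Q.map ((centerC (mulΓ r)).app P)) ≫ α =
        α ≫ DerivedCategory.Q.map ((DCoh.tensorCx.map ((centerC (mulΓ r)).app P)).app K) :=
      (Groth.Agent.Lib.Helper5.AssocD.ε K).naturality ((centerC (mulΓ r)).app P)
    have h2 : α ≫ (mulΓD r).app (DerivedCategory.Q.obj ((DCoh.tensorCx.obj P).obj K)) =
        (mulΓD r).app (F.obj (DerivedCategory.Q.obj P)) ≫ α := centerD_comm (mulΓ r) α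
    rw [← h2, centerD_app_Q, centerD_app_Q, ← tensorCx_map_center]
    exact h1
  have h3 := centerD_conj (mulΓ r) e
  have h4 := centerD_conj (mulΓ r) (F.mapIso e)
  rw [h3, h4, Functor.map_comp, Functor.map_comp, key]
  rfl

end Groth.Agent.Lib.Helper5.RHomQC
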