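import Mathlib
import Groth.Prelude.Def_DCoh4
import Groth.Agent.Lib.Helper5.RHomQC.Alg
import Groth.Agent.Lib.Helper5.RHomQC.Shriek1
import Groth.Agent.Lib.Helper5.RHomQC.ResTen
import Groth.Agent.Lib.Helper5.RHomQC.LinTen

/-!
# The tensor side: transport along the adjunction `- ⊗^L K ⊣ RHom(K, -)` (helper5)
-/
set_option autoImplicit false
set_option linter.unusedSectionVars false
set_option linter.unusedVariables false
universe u
open CategoryTheory CategoryTheory.Limits AlgebraicGeometry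
attribute [local instance] HasDerivedCategory.standard

namespace Groth.Agent.Lib.Helper5.RHomQC

open Groth.Agent.Lib.Helper5.BvdB Groth.Agent.Lib.Helper5.DCenter
  Groth.Agent.Lib.Helper5.ShriekProj

attribute [local instance] preservesFiniteLimits_extZero

variable {X : Scheme.{u}} (K : CochainComplex X.Modules ℤ) [DCoh.HasLTensorCx K]

section Restrict

variable (V : X.Opens)

/-- maps from `j_! B` to objects vanishing on `V` are zero -/
theorem hom_extZeroD_eq_zero (B : DCoh.D (V : Scheme.{u})) (L' : DCoh.D X)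
    (hL' : IsZero ((DCoh.restrictD V.ι).obj L')) (φ : (CxOX.extZeroD V.ι).obj B ⟶ L') :
    φ = 0 := by
  apply ((shriekAdj V).homEquiv _ _).injective
  exact hL'.eq_of_tgt _ _

variable [DCoh.HasLTensorCx (KV V K)]

theorem isIso_restrictD_ltensor_map {T T' : DCoh.D X} (t : T' ⟶ T)
    (ht : IsIso ((DCoh.restrictD V.ι).map t)) :
    IsIso ((DCoh.restrictD V.ι).map ((DCoh.LTensorCx K).map t)) := by
  have h := NatIso.isIso_map_iff (resTenIso V K) t
  apply h.2
  change IsIso ((DCoh.LTensorCx (KV V K)).map ((DCoh.restrictD V.ι).map t))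
  infer_instance

/-- `j_! O_V [-n] ⊗^L K ≅ j_! (O_V[-n] ⊗^L K|_V)` -/
noncomputable def ltensorSSIso (n : ℤ) :
    (DCoh.LTensorCx K).obj (SS V n) ≅
      (CxOX.extZeroD V.ι).obj ((DCoh.LTensorCx (KV V K)).obj
        ((DerivedCategory.singleFunctor (V : Scheme.{u}).Modules n).obj
          (Coh.structureModule (V : Scheme.{u})))) :=
  (DCoh.LTensorCx K).mapIso (ssIso V n).symm ≪≫ ((derProjIso V K).app _).symm

theorem hom_ltensor_SS_eq_zero (n : ℤ) (L' : DCoh.D X)
    (hL' : IsZero ((DCoh.restrictD V.ι).obj L')) (φ : (DCoh.LTensorCx K).obj (SS V n) ⟶ L') :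
    φ = 0 := by
  have h1 : (ltensorSSIso K V n).inv ≫ φ = 0 := hom_extZeroD_eq_zero V _ L' hL' _
  have h2 : (ltensorSSIso K V n).hom ≫ (ltensorSSIso K V n).inv ≫ φ = 0 := by rw [h1, comp_zero]
  simpa using h2

end Restrict

section Adj

variable [DCoh.HasRSheafHom K] (A : Type u) [CommRing A] [X.Over (Spec (CommRingCat.of A))]

theorem homEquiv_smul (a : A) {S L : DCoh.D X} (g : (DCoh.LTensorCx K).obj S ⟶ L) :
    (DCoh.RSheafHomAdj K).homEquiv S L (a • g) = a • (DCoh.RSheafHomAdj K).homEquiv S L g := by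
  rw [smul_eq_comp A a g, centerD_comm, ← ltensor_map_center,
    Adjunction.homEquiv_naturality_left, smul_eq_comp A a, centerD_comm]
  rfl

include A in
theorem homEquiv_zero {S L : DCoh.D X} :
    (DCoh.RSheafHomAdj K).homEquiv S L 0 = 0 := by
  have h := homEquiv_smul K A (0 : A) (0 : (DCoh.LTensorCx K).obj S ⟶ L)
  rw [zero_smul, zero_smul] at h
  exact h

variable {A} in
/-- transport of the localisation property along the adjunction -/
theorem loc_transport (a : A) {S' S : DCoh.D X} (t : S' ⟶ S) (L : DCoh.D X)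
    (h : LocSurj a (fun x : (DCoh.LTensorCx K).obj S ⟶ L => (DCoh.LTensorCx K).map t ≫ x) ∧
      LocInj a (fun x : (DCoh.LTensorCx K).obj S ⟶ L => (DCoh.LTensorCx K).map t ≫ x)) :
    LocSurj a (fun x : S ⟶ (DCoh.RSheafHom K).obj L => t ≫ x) ∧
      LocInj a (fun x : S ⟶ (DCoh.RSheafHom K).obj L => t ≫ x) := by
  obtain ⟨hs, hi⟩ := h
  constructor
  · intro y
    obtain ⟨k, x', hx'⟩ := hs (((DCoh.RSheafHomAdj K).homEquiv _ _).symm y)
    refine ⟨k, (DCoh.RSheafHomAdj K).homEquiv _ _ x', ?_⟩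
    change t ≫ (DCoh.RSheafHomAdj K).homEquiv _ _ x' = a ^ k • y
    change (DCoh.LTensorCx K).map t ≫ x' = a ^ k • ((DCoh.RSheafHomAdj K).homEquiv _ _).symm y
      at hx'
    rw [← Adjunction.homEquiv_naturality_left, hx', homEquiv_smul, Equiv.apply_symm_apply]
  · intro x hx
    change t ≫ x = 0 at hx
    have h1 : (DCoh.LTensorCx K).map t ≫ ((DCoh.RSheafHomAdj K).homEquiv _ _).symm x = 0 := by
      apply ((DCoh.RSheafHomAdj K).homEquiv _ _).injective
      rw [Adjunction.homEquiv_naturality_left, Equiv.apply_symm_apply, hx, homEquiv_zero K A]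
    obtain ⟨k, hk⟩ := hi _ h1
    refine ⟨k, ?_⟩
    have h2 := homEquiv_smul K A (a ^ k) (((DCoh.RSheafHomAdj K).homEquiv _ _).symm x)
    rw [hk, Equiv.apply_symm_apply, homEquiv_zero K A] at h2
    exact h2.symm

end Adj

end Groth.Agent.Lib.Helper5.RHomQC
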