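import Mathlib
import Groth.Prelude.Def_DCoh3
import Groth.Agent.Lib.Helper5.RHomQC.Alg
import Groth.Agent.Lib.Helper5.DCenter.Kill
import Groth.Agent.Lib.Helper5.BvdB.Adj
import Groth.Agent.Lib.Helper5.QC.RpushQC
import Groth.Agent.Lib.Helper5.QC.DQCTri

/-!
# Deligne's formula in an abstract form (helper5)

For a global function `a` on a quasi-compact quasi-separated scheme `X` with non-vanishing locus
`U = X_a`, a morphism `t : T' ⟶ T` with perfect target which is an isomorphism over `U` and such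
that `T'` has no maps to objects vanishing on `U`, and `F ∈ D_QCoh(X)`: the map
`Hom(T, F) ⟶ Hom(T', F)` is a localisation at `a` (elementwise formulation).
-/
set_option autoImplicit false
set_option linter.unusedSectionVars false
set_option linter.unusedVariables false
universe u
open CategoryTheory CategoryTheory.Limits AlgebraicGeometry Pretriangulated
attribute [local instance] HasDerivedCategory.standard

namespace Groth.Agent.Lib.Helper5.RHomQC

open Groth.Agent.Lib.Helper5.BvdB Groth.Agent.Lib.Helper5.DCenter Groth.Agent.Lib.Helper5.QC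

variable {X : Scheme.{u}} (A : Type u) [CommRing A] [X.Over (Spec (CommRingCat.of A))] (a : A)

/-- the inclusion of the non-vanishing locus -/
noncomputable abbrev jj : ((nzl (X := X) A a : X.Opens) : Scheme.{u}) ⟶ X := (nzl (X := X) A a).ι

variable [DCoh.HasRpush (jj (X := X) A a)]

/-- restriction of the unit of `j^* ⊣ Rj_*` is an isomorphism -/
theorem isIso_restrict_unit (F : DCoh.D X) :
    IsIso ((DCoh.restrictD (jj A a)).map ((resAdj (jj A a)).unit.app F)) := by
  have h := (resAdj (jj (X := X) A a)).left_triangle_components F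
  haveI : IsIso ((resAdj (jj (X := X) A a)).counit.app ((DCoh.restrictD (jj A a)).obj F)) :=
    inferInstance
  haveI : IsIso (𝟙 ((DCoh.restrictD (jj A a)).obj F)) := IsIso.id _
  exact IsIso.of_isIso_fac_right h

/-- the localisation triangle `F' ⟶ F ⟶ Rj_* j^* F` -/
theorem exists_local_triangle (F : DCoh.D X) (hF : DCoh.IsQCohD F) :
    ∃ (F' : DCoh.D X) (α : F' ⟶ F)
      (δ : (DCoh.Rpush (jj A a)).obj ((DCoh.restrictD (jj A a)).obj F) ⟶ F'⟦(1 : ℤ)⟧),
      Triangle.mk α ((resAdj (jj A a)).unit.app F) δ ∈ distTriang (DCoh.D X) ∧ Tgt A a F' := by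
  obtain ⟨F', α, δ, hT⟩ := distinguished_cocone_triangle₁ ((resAdj (jj (X := X) A a)).unit.app F)
  refine ⟨F', α, δ, hT, ?_, ?_⟩
  · refine isQCohD_of_triangle_left _ hT hF ?_
    exact isQCohD_rpush (jj A a) _ (isQCohD_restrictD _ F hF)
  · rw [← isZero_restrictD_iff_vanishOn]
    have hT' := (DCoh.restrictD (jj (X := X) A a)).map_distinguished _ hT
    haveI := isIso_restrict_unit A a F
    exact (Triangle.isZero₁_iff_isIso₂ _ hT').2
      (inferInstanceAs (IsIso ((DCoh.restrictD (jj A a)).map ((resAdj (jj A a)).unit.app F))))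

variable {A a}

/-- maps into a derived direct image from `U` can be tested after precomposing with `t` -/
theorem eq_zero_of_comp_rpush {T T' : DCoh.D X} (t : T' ⟶ T)
    (ht : IsIso ((DCoh.restrictD (jj A a)).map t)) {B : DCoh.D (nzl (X := X) A a : Scheme.{u})}
    (y : T ⟶ (DCoh.Rpush (jj A a)).obj B) (hy : t ≫ y = 0) : y = 0 := by
  have h1 := (resAdj (jj (X := X) A a)).homEquiv_naturality_left_symm t y
  rw [hy] at h1
  have h2 : ((resAdj (jj (X := X) A a)).homEquiv T' B).symm 0 = 0 :=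
    (resAdj (jj (X := X) A a)).homAddEquiv_symm_zero _ _
  rw [h2] at h1
  have h3 : ((resAdj (jj (X := X) A a)).homEquiv T B).symm y = 0 := by
    rw [← cancel_epi ((DCoh.restrictD (jj A a)).map t), ← h1, comp_zero]
  have h4 := congrArg ((resAdj (jj (X := X) A a)).homEquiv T B) h3
  rw [Equiv.apply_symm_apply] at h4
  exact h4.trans ((resAdj (jj (X := X) A a)).homAddEquiv_zero _ _)

/-- maps into a derived direct image from `U` extend along `t` -/
theorem exists_comp_rpush {T T' : DCoh.D X} (t : T' ⟶ T)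
    (ht : IsIso ((DCoh.restrictD (jj A a)).map t)) {B : DCoh.D (nzl (X := X) A a : Scheme.{u})}
    (y' : T' ⟶ (DCoh.Rpush (jj A a)).obj B) :
    ∃ y : T ⟶ (DCoh.Rpush (jj A a)).obj B, t ≫ y = y' := by
  refine ⟨(resAdj (jj (X := X) A a)).homEquiv T B
    (inv ((DCoh.restrictD (jj A a)).map t) ≫
      ((resAdj (jj (X := X) A a)).homEquiv T' B).symm y'), ?_⟩
  apply ((resAdj (jj (X := X) A a)).homEquiv T' B).symm.injective
  rw [(resAdj (jj (X := X) A a)).homEquiv_naturality_left_symm, Equiv.symm_apply_apply,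
    IsIso.hom_inv_id_assoc]

/-- **Deligne's formula, abstract form** -/
theorem deligne [CompactSpace X] [QuasiSeparatedSpace X] {T T' F : DCoh.D X} (t : T' ⟶ T)
    (hT : DCoh.IsPerfect T) (hF : DCoh.IsQCohD F)
    (ht : IsIso ((DCoh.restrictD (jj A a)).map t))
    (hT' : ∀ L' : DCoh.D X, IsZero ((DCoh.restrictD (jj A a)).obj L') → ∀ φ : T' ⟶ L', φ = 0) :
    LocSurj a (fun x : T ⟶ F => t ≫ x) ∧ LocInj a (fun x : T ⟶ F => t ≫ x) := by
  obtain ⟨F', α, δ, hTri, hF'⟩ := exists_local_triangle A a F hF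
  have hF'z : IsZero ((DCoh.restrictD (jj A a)).obj F') :=
    (isZero_restrictD_iff_vanishOn _ F').2 hF'.2
  constructor
  · intro y
    obtain ⟨z, hz⟩ := exists_comp_rpush t ht (y ≫ (resAdj (jj (X := X) A a)).unit.app F)
    obtain ⟨n, hn⟩ := Groth.Agent.Lib.Helper5.DCenter.exists_pow_smul_eq_zero A a hT (hF'.shift 1) (z ≫ δ)
    have h1 : ((a ^ n) • z) ≫ δ = 0 := by rw [Linear.smul_comp, hn]
    obtain ⟨x₀, hx₀⟩ := Triangle.coyoneda_exact₃ _ hTri ((a ^ n) • z) h1
    let x : T ⟶ F := x₀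
    have hx : (a ^ n) • z = x ≫ (resAdj (jj (X := X) A a)).unit.app F := hx₀
    refine ⟨n, x, ?_⟩
    change t ≫ x = (a ^ n) • y
    have h2 : (t ≫ x - (a ^ n) • y) ≫ (resAdj (jj (X := X) A a)).unit.app F = 0 := by
      rw [Preadditive.sub_comp, Category.assoc, ← hx, Linear.smul_comp, ← hz, Linear.comp_smul,
        sub_self]
    obtain ⟨d₀, hd₀⟩ := Triangle.coyoneda_exact₂ _ hTri (t ≫ x - (a ^ n) • y) h2
    let d' : T' ⟶ F' := d₀
    have hd' : t ≫ x - (a ^ n) • y = d' ≫ α := hd₀
    rw [hT' F' hF'z d', zero_comp] at hd'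
    exact sub_eq_zero.1 hd'
  · intro x hx
    change t ≫ x = 0 at hx
    have h1 : x ≫ (resAdj (jj (X := X) A a)).unit.app F = 0 := by
      apply eq_zero_of_comp_rpush t ht
      rw [← Category.assoc, hx, zero_comp]
    obtain ⟨x₀, hx₀⟩ := Triangle.coyoneda_exact₂ _ hTri x h1
    let x' : T ⟶ F' := x₀
    have hx' : x = x' ≫ α := hx₀
    obtain ⟨n, hn⟩ := Groth.Agent.Lib.Helper5.DCenter.exists_pow_smul_eq_zero A a hT hF' x'
    refine ⟨n, ?_⟩
    rw [hx', ← Linear.smul_comp, hn, zero_comp]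

end Groth.Agent.Lib.Helper5.RHomQC
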