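import Mathlib
import Groth.Prelude.Def_DCoh4
import Groth.Agent.Lib.Helper5.RHomQC.Alg
import Groth.Agent.Lib.Helper5.RHomQC.Gen
import Groth.Agent.Lib.Helper5.RHomQC.Tri
import Groth.Agent.Lib.Helper5.RHomQC.Shriek2
import Groth.Agent.Lib.Helper5.RHomQC.PerfO
import Groth.Agent.Lib.Helper5.RHomQC.TenSide
import Groth.Agent.Lib.Helper5.BrownU.DQCohBrown
import Groth.Agent.Lib.Helper5.RpushCl.RpushClassic
import Groth.Agent.Lib.Helper5.Perf.HomVanishMV
import Groth.Agent.Lib.Helper5.QC.LpullQC
import Groth.Agent.Lib.Helper1.IdealModL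

/-!
# `RHom(K, L)` is in `D_QCoh` for `K` perfect, `L ∈ D_QCoh`: the quasi-affine case (helper5)

`X` quasi-compact quasi-separated over `Spec A` such that the non-vanishing loci `X_a`, `a ∈ A`,
form a basis of the topology.
-/
set_option autoImplicit false
set_option linter.unusedSectionVars false
set_option linter.unusedVariables false
universe u
open CategoryTheory CategoryTheory.Limits AlgebraicGeometry
attribute [local instance] HasDerivedCategory.standard

namespace Groth.Agent.Lib.Helper5.RHomQC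

open Groth.Agent.Lib.Helper5.BvdB Groth.Agent.Lib.Helper5.DCenter
  Groth.Agent.Lib.Helper5.ShriekProj Groth.Agent.Lib.Helper5.QC Groth.Agent.Helper1

attribute [local instance] preservesFiniteLimits_extZero

section Abstract

variable {C : Type*} [Category C] (P : ObjectProperty C) [P.ι.IsLeftAdjoint]

/-- coreflection: maps from an object of the subcategory factor uniquely through the counit -/
theorem bijective_comp_counit (K₀ : P.FullSubcategory) (M : C) :
    Function.Bijective (fun x : P.ι.obj K₀ ⟶ P.ι.obj (P.ι.rightAdjoint.obj M) =>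
      x ≫ (Adjunction.ofIsLeftAdjoint P.ι).counit.app M) := by
  have h : (fun x : P.ι.obj K₀ ⟶ P.ι.obj (P.ι.rightAdjoint.obj M) =>
      x ≫ (Adjunction.ofIsLeftAdjoint P.ι).counit.app M) =
      fun x => (((Adjunction.ofIsLeftAdjoint P.ι).homEquiv K₀ M).symm
        (P.fullyFaithfulι.homEquiv.symm x)) := by
    funext x
    rw [Adjunction.homEquiv_counit]
    congr 1
  rw [h]
  exact (((Adjunction.ofIsLeftAdjoint P.ι).homEquiv K₀ M).symm.bijective).comp
    (P.fullyFaithfulι.homEquiv.symm.bijective)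

end Abstract

variable {X : Scheme.{u}}

theorem isQCohD_single (M : X.Modules) [M.IsQuasicoherent] (n : ℤ) :
    DCoh.IsQCohD ((DerivedCategory.singleFunctor X.Modules n).obj M) := by
  intro i
  by_cases hi : i = n
  · subst hi
    let e : M ≅ DCoh.HD ((DerivedCategory.singleFunctor X.Modules i).obj M) i :=
      ((DerivedCategory.singleFunctorCompHomologyFunctorIso X.Modules i).app M).symm
    exact QcAbel.isQuasicoherent_of_iso e
  · apply QcAbel.isQuasicoherent_of_isZero
    rcases lt_or_gt_of_ne hi with h | h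
    · exact DerivedCategory.isZero_of_isGE _ n i h
    · exact DerivedCategory.isZero_of_isLE _ n i h

variable [CompactSpace X] [QuasiSeparatedSpace X]
  (A : Type u) [CommRing A] [X.Over (Spec (CommRingCat.of A))]
  (K : CochainComplex X.Modules ℤ) [DCoh.HasLTensorCx K] [DCoh.HasRSheafHom K]

/-- **`RHom(K, L) ∈ D_QCoh` for `K` perfect and `L ∈ D_QCoh`**, when the loci `X_a` form a basis -/
theorem isQCohD_rhom_of_basis
    (h𝔹 : TopologicalSpace.Opens.IsBasis (Set.range fun a : A => nzl (X := X) A a))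
    (hK : DCoh.IsPerfect (DCoh.toD X K)) (L : DCoh.D X) (hL : DCoh.IsQCohD L) :
    DCoh.IsQCohD ((DCoh.RSheafHom K).obj L) := by
  haveI : (DCoh.IsQCohD (X := X)).ι.IsLeftAdjoint :=
    Groth.Agent.Lib.Helper5.BrownU.isLeftAdjoint_ι_DQ X
  let M : DCoh.D X := (DCoh.RSheafHom K).obj L
  let N₀ := (DCoh.IsQCohD (X := X)).ι.rightAdjoint.obj M
  let N : DCoh.D X := (DCoh.IsQCohD (X := X)).ι.obj N₀
  let c : N ⟶ M := (Adjunction.ofIsLeftAdjoint (DCoh.IsQCohD (X := X)).ι).counit.app M
  have hN : DCoh.IsQCohD N := N₀.property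
  suffices IsIso c from isQCohD_of_iso (asIso c) hN
  apply isIso_of_bijective_hom_shriek h𝔹 c
  rintro U ⟨a, rfl⟩ n
  haveI : DCoh.HasRpush (jj (X := X) A a) := Groth.Agent.Lib.Helper5.HomVanish.hasRpush' _
  haveI : DCoh.HasLTensorCx (KV (nzl (X := X) A a) K) :=
    Groth.Agent.Lib.Helper5.LTenAll.hasLTensorCx _
  haveI : (Coh.structureModule X).IsQuasicoherent :=
    Groth.Agent.Helper1.IdealModL.isQuasicoherent_structureModule
  have hOq : DCoh.IsQCohD (OO X n) := isQCohD_single (Coh.structureModule X) n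
  have ht : IsIso ((DCoh.restrictD (jj (X := X) A a)).map (tt (nzl (X := X) A a) n)) :=
    isIso_restrictD_tt (nzl (X := X) A a) n
  -- Deligne on the `N` side
  obtain ⟨hs₁, hi₁⟩ := deligne (A := A) (a := a) (F := N) (tt (nzl (X := X) A a) n)
    (isPerfect_OO n) hN ht (hom_SS_eq_zero (nzl (X := X) A a) n)
  -- Deligne on the tensor side
  obtain ⟨hs₂, hi₂⟩ := loc_transport K a (tt (nzl (X := X) A a) n) L
    (deligne (A := A) (a := a) (F := L) ((DCoh.LTensorCx K).map (tt (nzl (X := X) A a) n))
      (isPerfect_ltensor_OO K hK n) hL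
      (isIso_restrictD_ltensor_map K (nzl (X := X) A a) _ ht)
      (hom_ltensor_SS_eq_zero K (nzl (X := X) A a) n))
  have hc : Function.Bijective (fun x : OO X n ⟶ N => x ≫ c) :=
    bijective_comp_counit (DCoh.IsQCohD (X := X)) ⟨OO X n, hOq⟩ M
  exact bijective_of_loc a (Linear.leftComp A N (tt (nzl (X := X) A a) n))
    (Linear.leftComp A M (tt (nzl (X := X) A a) n)) (Linear.rightComp A (OO X n) c)
    (Linear.rightComp A (SS (nzl (X := X) A a) n) c)
    (fun x => (Category.assoc (tt (nzl (X := X) A a) n) x c)) hc hs₁ hi₁ hs₂ hi₂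
    (fun y hy => smul_hom_SS_injective A a n y hy)
    (fun y => smul_hom_SS_surjective A a n y)
    (fun y hy => smul_hom_SS_injective A a n y hy)

end Groth.Agent.Lib.Helper5.RHomQC
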