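import Mathlib
import Groth.Prelude.Def_DCoh4
import Groth.Agent.Lib.Helper5.RHomQC.Main
import Groth.Agent.Lib.Helper5.BvdB.ShriekRes
import Groth.Agent.Lib.Helper5.Perf.CountHomAff
import Groth.Agent.Lib.Helper5.Perf.LocalCoh
import Groth.Agent.Lib.Helper5.Stalk.RpushSupp

/-!
# `RHom(K, L)` is in `D_QCoh` for `K` perfect, `L ∈ D_QCoh`: the general case (helper5)
-/
set_option autoImplicit false
set_option linter.unusedSectionVars false
set_option linter.unusedVariables false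
universe u
open CategoryTheory CategoryTheory.Limits AlgebraicGeometry
attribute [local instance] HasDerivedCategory.standard

namespace Groth.Agent.Lib.Helper5.RHomQC

open Groth.Agent.Lib.Helper5.BvdB Groth.Agent.Lib.Helper5.DCenter
  Groth.Agent.Lib.Helper5.ShriekProj Groth.Agent.Lib.Helper5.QC Groth.Agent.Helper1

attribute [local instance] preservesFiniteLimits_extZero
attribute [local instance] Groth.Agent.Lib.Helper5.HomVanish.hasRpush'

variable {X : Scheme.{u}}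

section Restrict

variable (V : X.Opens) (K : CochainComplex X.Modules ℤ) [DCoh.HasLTensorCx K]
  [DCoh.HasRSheafHom K] [DCoh.HasLTensorCx (KV V K)]

/-- `- ⊗^L K|_V ≅ (j_! (-) ⊗^L K)|_V` -/
noncomputable def ltensorRestrictIso :
    (CxOX.extZeroD V.ι ⋙ DCoh.LTensorCx K) ⋙ DCoh.restrictD V.ι ≅ DCoh.LTensorCx (KV V K) :=
  Functor.isoWhiskerRight (derProjIso V K).symm (DCoh.restrictD V.ι) ≪≫
    Functor.associator _ _ _ ≪≫
    Functor.isoWhiskerLeft (DCoh.LTensorCx (KV V K)) (asIso (shriekAdj V).unit).symm ≪≫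
    Functor.rightUnitor _

/-- **the internal Hom out of `K|_V` exists** -/
theorem hasRSheafHom_restrict : DCoh.HasRSheafHom (KV V K) :=
  ((((shriekAdj V).comp (DCoh.RSheafHomAdj K)).comp (resAdj V.ι)).ofNatIsoLeft
    (ltensorRestrictIso V K)).isLeftAdjoint

end Restrict

section Affine

variable (Y : Scheme.{u})

/-- a scheme as a scheme over the spectrum of its global functions -/
@[instance_reducible]
noncomputable def overΓ : Y.Over (Spec (CommRingCat.of Γ(Y, ⊤))) := ⟨Y.toSpecΓ⟩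

attribute [local instance] overΓ

theorem gf_overΓ (a : Γ(Y, ⊤)) : gf (X := Y) Γ(Y, ⊤) a = a := by
  change (Y.toSpecΓ.appTop).hom ((Scheme.ΓSpecIso Γ(Y, ⊤)).inv.hom a) = a
  rw [Scheme.toSpecΓ_appTop]
  exact Iso.inv_hom_id_apply (C := CommRingCat) _ _

theorem isBasis_nzl [IsAffine Y] :
    TopologicalSpace.Opens.IsBasis (Set.range fun a : Γ(Y, ⊤) => nzl (X := Y) Γ(Y, ⊤) a) := by
  have h := isBasis_basicOpen Y
  have e : (fun a : Γ(Y, ⊤) => nzl (X := Y) Γ(Y, ⊤) a) = (Y.basicOpen : Γ(Y, ⊤) → Y.Opens) := by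
    funext a
    change Y.basicOpen (gf (X := Y) Γ(Y, ⊤) a) = Y.basicOpen a
    rw [gf_overΓ]
  rw [e]
  exact h

/-- the affine case -/
theorem isQCohD_rhom_affine [IsAffine Y] (K : CochainComplex Y.Modules ℤ)
    [DCoh.HasLTensorCx K] [DCoh.HasRSheafHom K] (hK : DCoh.IsPerfect (DCoh.toD Y K))
    (L : DCoh.D Y) (hL : DCoh.IsQCohD L) : DCoh.IsQCohD ((DCoh.RSheafHom K).obj L) :=
  isQCohD_rhom_of_basis Γ(Y, ⊤) K (isBasis_nzl Y) hK L hL

end Affine

/-- **`RHom(K, L) ∈ D_QCoh` for `K` perfect and `L ∈ D_QCoh`** -/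
theorem isQCohD_rhom (K : CochainComplex X.Modules ℤ) [DCoh.HasLTensorCx K]
    [DCoh.HasRSheafHom K] (hK : DCoh.IsPerfect (DCoh.toD X K))
    (L : DCoh.D X) (hL : DCoh.IsQCohD L) : DCoh.IsQCohD ((DCoh.RSheafHom K).obj L) := by
  intro i
  apply Groth.Agent.Lib.Helper5.LocalCoh.isQuasicoherent_of_locally
  intro x
  obtain ⟨V, hV, hxV, -⟩ := exists_isAffineOpen_mem_and_subset (X := X) (x := x) (U := ⊤) trivial
  refine ⟨V, hxV, ?_⟩
  haveI : IsAffine (V : Scheme.{u}) := hV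
  haveI : DCoh.HasLTensorCx (KV V K) := Groth.Agent.Lib.Helper5.LTenAll.hasLTensorCx _
  haveI : DCoh.HasRSheafHom (KV V K) := hasRSheafHom_restrict V K
  have hKV : DCoh.IsPerfect (DCoh.toD (V : Scheme.{u}) (KV V K)) :=
    Groth.Agent.Lib.Helper5.PerfTri.isPerfect_of_iso
      ((Scheme.Modules.restrictFunctor V.ι).mapDerivedCategoryFactors.app K)
      (Groth.Agent.Lib.Helper5.CountHom.isPerfect_restrictJ V.ι _ hK)
  have hLV : DCoh.IsQCohD ((DCoh.restrictD V.ι).obj L) := isQCohD_restrictD V L hL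
  have h1 := isQCohD_rhom_affine (V : Scheme.{u}) (KV V K) hKV _ hLV
  have h2 : DCoh.IsQCohD ((DCoh.restrictD V.ι).obj ((DCoh.RSheafHom K).obj L)) :=
    isQCohD_of_iso ((rhomRestrictIso V K).app L).symm h1
  haveI := h2 i
  exact QcAbel.isQuasicoherent_of_iso
    (Groth.Agent.Lib.Helper5.RpushSupp.hdRestrictDIso ((DCoh.RSheafHom K).obj L) V i).symm

end Groth.Agent.Lib.Helper5.RHomQC
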