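import Mathlib
import Groth.Agent.Lib.Helper5.RHomQC.Alg

/-!
# Transfer of injectivity / surjectivity along localisations at an element (helper5)
-/
set_option autoImplicit false
universe u v

namespace Groth.Agent.Lib.Helper5.RHomQC

variable {A : Type u} [CommRing A] (r : A)

variable {H₁ H₁' H₂ H₂' : Type v} [AddCommGroup H₁] [AddCommGroup H₁'] [AddCommGroup H₂]
  [AddCommGroup H₂'] [Module A H₁] [Module A H₁'] [Module A H₂] [Module A H₂']

theorem injective_of_loc (ρ₁ : H₁ →ₗ[A] H₁') (ρ₂ : H₂ →ₗ[A] H₂') (c : H₁ →ₗ[A] H₂)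
    (c' : H₁' →ₗ[A] H₂') (hcomm : ∀ x, c' (ρ₁ x) = ρ₂ (c x)) (hc : Function.Injective c)
    (hs₁ : LocSurj r ρ₁) (hi₂ : LocInj r ρ₂)
    (hr₁ : ∀ y : H₁', r • y = 0 → y = 0) : Function.Injective c' := by
  have hpow₁ : ∀ (k : ℕ) (y : H₁'), r ^ k • y = 0 → y = 0 := by
    intro k
    induction k with
    | zero => intro y hy; simpa using hy
    | succ k ih =>
      intro y hy
      rw [pow_succ, mul_smul] at hy
      exact hr₁ y (ih _ hy)
  rw [injective_iff_map_eq_zero]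
  intro y hy
  obtain ⟨k, x, hx⟩ := hs₁ y
  have h1 : ρ₂ (c x) = 0 := by rw [← hcomm, hx, map_smul, hy, smul_zero]
  obtain ⟨m, hm⟩ := hi₂ (c x) h1
  have h2 : c (r ^ m • x) = 0 := by rw [map_smul, hm]
  have h3 : r ^ m • x = 0 := hc (h2.trans (map_zero c).symm)
  have h4 : r ^ (m + k) • y = 0 := by
    rw [pow_add, mul_smul, ← hx, ← map_smul, h3, map_zero]
  exact hpow₁ _ y h4

theorem surjective_of_loc (ρ₁ : H₁ →ₗ[A] H₁') (ρ₂ : H₂ →ₗ[A] H₂') (c : H₁ →ₗ[A] H₂)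
    (c' : H₁' →ₗ[A] H₂') (hcomm : ∀ x, c' (ρ₁ x) = ρ₂ (c x)) (hc : Function.Surjective c)
    (hs₂ : LocSurj r ρ₂) (hr₁' : ∀ y : H₁', ∃ y', r • y' = y)
    (hr₂ : ∀ y : H₂', r • y = 0 → y = 0) : Function.Surjective c' := by
  have hpow₂ : ∀ (k : ℕ) (y : H₂'), r ^ k • y = 0 → y = 0 := by
    intro k
    induction k with
    | zero => intro y hy; simpa using hy
    | succ k ih =>
      intro y hy
      rw [pow_succ, mul_smul] at hy
      exact hr₂ y (ih _ hy)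
  have hdiv₁ : ∀ (k : ℕ) (y : H₁'), ∃ y', r ^ k • y' = y := by
    intro k
    induction k with
    | zero => intro y; exact ⟨y, by simp⟩
    | succ k ih =>
      intro y
      obtain ⟨y₁, hy₁⟩ := hr₁' y
      obtain ⟨y₂, hy₂⟩ := ih y₁
      exact ⟨y₂, by rw [pow_succ, mul_comm, mul_smul, hy₂, hy₁]⟩
  intro y'
  obtain ⟨k, x₂, hx₂⟩ := hs₂ y'
  obtain ⟨x₁, rfl⟩ := hc x₂
  obtain ⟨y, hy⟩ := hdiv₁ k (ρ₁ x₁)
  refine ⟨y, ?_⟩
  have h : r ^ k • (c' y - y') = 0 := by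
    rw [smul_sub, ← map_smul, hy, hcomm, hx₂, sub_self]
  exact sub_eq_zero.1 (hpow₂ k _ h)

end Groth.Agent.Lib.Helper5.RHomQC
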