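import Mathlib
import Groth.Agent.Lib.Helper5.RHomQC.Gen

/-!
# Degreewise detection of isomorphisms on cohomology by maps from a detecting family (helper5)
-/
set_option autoImplicit false
set_option linter.unusedSectionVars false
set_option linter.unusedVariables false
universe w u v
open CategoryTheory CategoryTheory.Limits Pretriangulated

namespace Groth.Agent.Lib.Helper5.RHomQC

open Groth.Agent.Lib.Helper5.QC

variable {A : Type u} [Category.{v} A] [Abelian A] [HasDerivedCategory.{w} A]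

open DerivedCategory

/-- maps from `W[-j]` to the cone of `f` vanish when `Hom(W[-j], f)` is surjective and
`Hom(W[-j-1], f)` is injective -/
theorem hom_cone_eq_zero {K L N : DerivedCategory A} (f : K ⟶ L) (g : L ⟶ N)
    (δ : N ⟶ K⟦(1 : ℤ)⟧) (hT : Triangle.mk f g δ ∈ distTriang (DerivedCategory A))
    (W : A) (j : ℤ)
    (hinj : Function.Injective (fun φ : (singleFunctor A (j + 1)).obj W ⟶ K => φ ≫ f))
    (hsurj : Function.Surjective (fun φ : (singleFunctor A j).obj W ⟶ K => φ ≫ f))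
    (φ : (singleFunctor A j).obj W ⟶ N) : φ = 0 := by
  have h1 : φ ≫ δ = 0 := by
    let σ : (singleFunctor A (j + 1)).obj W ≅ ((singleFunctor A j).obj W)⟦(-1 : ℤ)⟧ :=
      ((singleFunctors A).shiftIso (-1) (j + 1) j (by lia)).symm.app W
    let u := (shiftEquiv (DerivedCategory A) (1 : ℤ)).unitIso
    let ψ : ((singleFunctor A j).obj W)⟦(-1 : ℤ)⟧ ⟶ K := (φ ≫ δ)⟦(-1 : ℤ)⟧' ≫ u.inv.app K
    have h2 : ψ ≫ f = 0 := by
      have hn : u.inv.app K ≫ f = (f⟦(1 : ℤ)⟧')⟦(-1 : ℤ)⟧' ≫ u.inv.app L :=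
        (u.inv.naturality f).symm
      have h3 : δ ≫ f⟦(1 : ℤ)⟧' = 0 := comp_distTriang_mor_zero₃₁ _ hT
      have e1 : ψ ≫ f = (φ ≫ δ)⟦(-1 : ℤ)⟧' ≫ (u.inv.app K ≫ f) := Category.assoc _ _ _
      have e2 : (φ ≫ δ)⟦(-1 : ℤ)⟧' ≫ ((f⟦(1 : ℤ)⟧')⟦(-1 : ℤ)⟧' ≫ u.inv.app L) =
          ((φ ≫ δ) ≫ f⟦(1 : ℤ)⟧')⟦(-1 : ℤ)⟧' ≫ u.inv.app L := by
        rw [← Category.assoc, ← Functor.map_comp]
      refine e1.trans ((congrArg (fun t => (φ ≫ δ)⟦(-1 : ℤ)⟧' ≫ t) hn).trans (e2.trans ?_))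
      rw [Category.assoc, h3, comp_zero, Functor.map_zero, zero_comp]
    have h4 : σ.hom ≫ ψ = 0 := by
      apply hinj
      change (σ.hom ≫ ψ) ≫ f = 0 ≫ f
      rw [Category.assoc, h2, comp_zero, zero_comp]
    have h5 : ψ = 0 := by
      rw [← cancel_epi σ.hom, h4, comp_zero]
    have h6 : (φ ≫ δ)⟦(-1 : ℤ)⟧' = 0 := by
      have e3 : u.inv.app K ≫ u.hom.app K = 𝟙 _ := u.inv_hom_id_app K
      have : (φ ≫ δ)⟦(-1 : ℤ)⟧' = ψ ≫ u.hom.app K :=
        ((Category.comp_id _).symm.trans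
          (congrArg (fun t => (φ ≫ δ)⟦(-1 : ℤ)⟧' ≫ t) e3.symm)).trans
          (Category.assoc _ _ _).symm
      exact this.trans ((congrArg (fun t => t ≫ u.hom.app K) h5).trans zero_comp)
    exact (shiftFunctor (DerivedCategory A) (-1 : ℤ)).map_injective
      (h6.trans (Functor.map_zero _ _ _).symm)
  obtain ⟨φ', hφ'⟩ := Triangle.coyoneda_exact₃ _ hT φ h1
  obtain ⟨φ'', hφ''⟩ := hsurj φ'
  change φ = φ' ≫ g at hφ'
  change φ'' ≫ f = φ' at hφ''
  have h7 : f ≫ g = 0 := comp_distTriang_mor_zero₁₂ _ hT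
  have h8 : φ = φ'' ≫ (f ≫ g) := by
    rw [hφ', ← hφ'']
    exact Category.assoc _ _ _
  exact h8.trans ((congrArg (fun t => φ'' ≫ t) h7).trans comp_zero)

/-- the cone of `f` has no cohomology in degree `j` if, for `W` in a detecting family,
`Hom(W[-j], f)` is surjective and `Hom(W[-j-1], f)` is injective -/
theorem isZero_homology_cone {𝒲 : Set A} (h𝒲 : Detects 𝒲) {K L N : DerivedCategory A}
    (f : K ⟶ L) (g : L ⟶ N) (δ : N ⟶ K⟦(1 : ℤ)⟧)
    (hT : Triangle.mk f g δ ∈ distTriang (DerivedCategory A))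
    (hres : ∃ I : CochainComplex A ℤ, I.IsKInjective ∧ Nonempty (N ≅ Q.obj I)) (j : ℤ)
    (hinj : ∀ W ∈ 𝒲, Function.Injective
      (fun φ : (singleFunctor A (j + 1)).obj W ⟶ K => φ ≫ f))
    (hsurj : ∀ W ∈ 𝒲, Function.Surjective
      (fun φ : (singleFunctor A j).obj W ⟶ K => φ ≫ f)) :
    IsZero ((homologyFunctor A j).obj N) := by
  obtain ⟨I, hI, ⟨e⟩⟩ := hres
  haveI := hI
  have hex : I.ExactAt j := by
    apply exactAt_of_hom_single h𝒲
    intro W hW φ
    have h1 : φ ≫ e.inv = 0 :=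
      hom_cone_eq_zero f g δ hT W j (hinj W hW) (hsurj W hW) (φ ≫ e.inv)
    rw [← cancel_mono e.inv, h1, zero_comp]
  have h2 : IsZero (I.homology j) := (HomologicalComplex.exactAt_iff_isZero_homology I j).1 hex
  exact IsZero.of_iso h2 ((homologyFunctor A j).mapIso e ≪≫ (homologyFunctorFactors A j).app I)

/-- a morphism induces an isomorphism on `H^j` if its cone has no cohomology in degrees
`j - 1` and `j` -/
theorem isIso_homology_map_of_cone {K L N : DerivedCategory A}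
    (f : K ⟶ L) (g : L ⟶ N) (δ : N ⟶ K⟦(1 : ℤ)⟧)
    (hT : Triangle.mk f g δ ∈ distTriang (DerivedCategory A)) (j : ℤ)
    (h0 : IsZero ((homologyFunctor A (j - 1)).obj N))
    (h1 : IsZero ((homologyFunctor A j).obj N)) :
    IsIso ((homologyFunctor A j).map f) := by
  haveI : Epi ((homologyFunctor A j).map f) :=
    (HomologySequence.epi_homologyMap_mor₁_iff _ hT j).2 (h1.eq_of_tgt _ _)
  haveI : Mono ((homologyFunctor A j).map f) :=
    (HomologySequence.mono_homologyMap_mor₁_iff _ hT (j - 1) j (by omega)).2 (h0.eq_of_src _ _)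
  exact isIso_of_mono_of_epi _

end Groth.Agent.Lib.Helper5.RHomQC
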