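import Mathlib
import Groth.Prelude.Def_DCoh4
import Groth.Agent.Lib.Helper5.RHomQC.TenSide

/-!
# Transport of the two halves of the localisation property along `- ⊗^L K ⊣ RHom(K, -)`
-/
set_option autoImplicit false
set_option linter.unusedSectionVars false
set_option linter.unusedVariables false
universe u
open CategoryTheory CategoryTheory.Limits AlgebraicGeometry
attribute [local instance] HasDerivedCategory.standard

namespace Groth.Agent.Lib.Helper5.RHomQC

variable {X : Scheme.{u}} (K : CochainComplex X.Modules ℤ) [DCoh.HasLTensorCx K]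
  [DCoh.HasRSheafHom K] {A : Type u} [CommRing A] [X.Over (Spec (CommRingCat.of A))]

theorem locSurj_transport (a : A) {S' S : DCoh.D X} (t : S' ⟶ S) (L : DCoh.D X)
    (hs : LocSurj a (fun x : (DCoh.LTensorCx K).obj S ⟶ L => (DCoh.LTensorCx K).map t ≫ x)) :
    LocSurj a (fun x : S ⟶ (DCoh.RSheafHom K).obj L => t ≫ x) := by
  intro y
  obtain ⟨k, x', hx'⟩ := hs (((DCoh.RSheafHomAdj K).homEquiv _ _).symm y)
  refine ⟨k, (DCoh.RSheafHomAdj K).homEquiv _ _ x', ?_⟩
  change t ≫ (DCoh.RSheafHomAdj K).homEquiv _ _ x' = a ^ k • y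
  change (DCoh.LTensorCx K).map t ≫ x' = a ^ k • ((DCoh.RSheafHomAdj K).homEquiv _ _).symm y
    at hx'
  rw [← Adjunction.homEquiv_naturality_left, hx', homEquiv_smul, Equiv.apply_symm_apply]

theorem locInj_transport (a : A) {S' S : DCoh.D X} (t : S' ⟶ S) (L : DCoh.D X)
    (hi : LocInj a (fun x : (DCoh.LTensorCx K).obj S ⟶ L => (DCoh.LTensorCx K).map t ≫ x)) :
    LocInj a (fun x : S ⟶ (DCoh.RSheafHom K).obj L => t ≫ x) := by
  intro x hx
  change t ≫ x = 0 at hx
  have h1 : (DCoh.LTensorCx K).map t ≫ ((DCoh.RSheafHomAdj K).homEquiv _ _).symm x = 0 := by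
    apply ((DCoh.RSheafHomAdj K).homEquiv _ _).injective
    rw [Adjunction.homEquiv_naturality_left, Equiv.apply_symm_apply, hx, homEquiv_zero K A]
  obtain ⟨k, hk⟩ := hi _ h1
  refine ⟨k, ?_⟩
  have h2 := homEquiv_smul K A (a ^ k) (((DCoh.RSheafHomAdj K).homEquiv _ _).symm x)
  rw [hk, Equiv.apply_symm_apply, homEquiv_zero K A] at h2
  exact h2.symm

end Groth.Agent.Lib.Helper5.RHomQC
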