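import Mathlib
import Groth.Prelude.Def_DCoh4
import Groth.Agent.Lib.Helper5.CohTen.Bound
import Groth.Agent.Lib.Helper5.LTen.LTenAll
import Groth.Agent.Lib.Helper5.LTen.PerfTensor
import Groth.Agent.Lib.Helper5.LTen.Coprod

/-!
# Bounds for the derived tensor product, and its symmetry for K-flat complexes (helper5)
-/
set_option autoImplicit false
set_option linter.unusedSectionVars false
set_option linter.unusedVariables false
universe u
open CategoryTheory CategoryTheory.Limits AlgebraicGeometry
attribute [local instance] HasDerivedCategory.standard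

namespace Groth.Agent.Lib.Helper5.RHomQC

variable {X : Scheme.{u}}

/-- **`L ⊗^L E` has no cohomology above `a + b`** when `L` has none above `a` and `E` none
above `b` -/
theorem isZero_HD_ltensor (E : CochainComplex X.Modules ℤ) [DCoh.HasLTensorCx E] (L : DCoh.D X)
    (a b : ℤ) (hLa : ∀ i : ℤ, a < i → IsZero (DCoh.HD L i))
    (hEb : ∀ i : ℤ, b < i → IsZero (DCoh.HD (DCoh.toD X E) i)) (i : ℤ) (hi : a + b < i) :
    IsZero (DCoh.HD ((DCoh.LTensorCx E).obj L) i) := by
  obtain ⟨P, hP, ⟨eP⟩, ⟨eT⟩⟩ := Groth.Agent.Lib.Helper5.LTenAll.exists_ltensor_iso E L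
  have hPa : ∀ i : ℤ, a < i → IsZero (DCoh.HD (DerivedCategory.Q.obj P) i) := fun i hi =>
    IsZero.of_iso (hLa i hi) ((DerivedCategory.homologyFunctor _ i).mapIso eP)
  refine IsZero.of_iso ?_ ((DerivedCategory.homologyFunctor _ i).mapIso eT ≪≫
    (DerivedCategory.homologyFunctorFactors X.Modules i).app _)
  exact Groth.Agent.Lib.Helper5.CohTen.isZero_homology_tensorCx_of_isLE P E hP a b
    (fun j hj => IsZero.of_iso (hPa j hj)
      ((DerivedCategory.homologyFunctorFactors X.Modules j).app P).symm)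
    (fun j hj => IsZero.of_iso (hEb j hj)
      ((DerivedCategory.homologyFunctorFactors X.Modules j).app E).symm) i hi

/-- **symmetry of the derived tensor product** when one factor is K-flat -/
noncomputable def ltensorSymmIso (F P : CochainComplex X.Modules ℤ) [DCoh.HasLTensorCx F]
    [DCoh.HasLTensorCx P] (hP : DCoh.IsKFlat P) :
    (DCoh.LTensorCx F).obj (DerivedCategory.Q.obj P) ≅
      (DCoh.LTensorCx P).obj (DerivedCategory.Q.obj F) :=
  Groth.Agent.Lib.Helper5.LTenAll.ltensorObjIsoOfKFlat (E := F) P hP ≪≫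
    DerivedCategory.Q.mapIso (Groth.Agent.Lib.Helper5.KFlatG.braid (ModSite.tensorBi X.sheaf)
      (Groth.Agent.Lib.Helper5.KFlatSiteQ.flipIso X.sheaf) P F) ≪≫
    (Groth.Agent.Lib.Helper5.LTenDer.ltensorObjIso P hP F).symm

end Groth.Agent.Lib.Helper5.RHomQC
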