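import Mathlib
import Groth.Prelude.Def_DCoh4
import Groth.Agent.Lib.Helper5.DCenter.Kill
import Groth.Agent.Lib.Helper5.LTen.TensorTri
import Groth.Agent.Lib.Helper5.RHomQC.TenBound

/-!
# Maps out of `P ⊗^L F`, `F` approximated by a perfect object, into torsion objects (helper5)
-/
set_option autoImplicit false
set_option linter.unusedSectionVars false
set_option linter.unusedVariables false
universe u
open CategoryTheory CategoryTheory.Limits AlgebraicGeometry Pretriangulated
attribute [local instance] HasDerivedCategory.standard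

namespace Groth.Agent.Lib.Helper5.RHomQC

open Groth.Agent.Lib.Helper5.DCenter

variable {X : Scheme.{u}} [CompactSpace X] [QuasiSeparatedSpace X]
  (A : Type u) [CommRing A] [X.Over (Spec (CommRingCat.of A))] (a : A)

/-- maps from the middle term of a triangle `P ⊗^L (T₁ ⟶ T₂ ⟶ T₃)` with `P ⊗^L T₁` perfect
and `P ⊗^L T₃` bounded above by `b`, to a torsion object of `D_QCoh` bounded below by `r' > b`,
are killed by a power of `a` -/
theorem torsion_of_triangle (P : CochainComplex X.Modules ℤ) [DCoh.HasLTensorCx P]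
    (tri : Triangle (DCoh.D X)) (htri : tri ∈ distTriang (DCoh.D X))
    (hperf : DCoh.IsPerfect ((DCoh.LTensorCx P).obj tri.obj₁))
    (b : ℤ) (hb : ∀ i : ℤ, b < i → IsZero (DCoh.HD ((DCoh.LTensorCx P).obj tri.obj₃) i))
    (F' : DCoh.D X) (hF' : Tgt A a F') (r' : ℤ) (hge : F'.IsGE r') (hbr : b < r')
    (x : (DCoh.LTensorCx P).obj tri.obj₂ ⟶ F') : ∃ k : ℕ, a ^ k • x = 0 := by
  obtain ⟨a₁, b₁, c₁, hT⟩ :=
    Groth.Agent.Lib.Helper5.LTenTri.exists_distinguished_ltensor P tri htri
  obtain ⟨k, hk⟩ := Groth.Agent.Lib.Helper5.DCenter.exists_pow_smul_eq_zero A a hperf hF' (a₁ ≫ x)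
  refine ⟨k, ?_⟩
  have h1 : a₁ ≫ (a ^ k • x) = 0 := by rw [Linear.comp_smul, hk]
  obtain ⟨w, hw⟩ := Triangle.yoneda_exact₂ _ hT (a ^ k • x) h1
  haveI : ((DCoh.LTensorCx P).obj tri.obj₃).IsLE b := by
    rw [DerivedCategory.isLE_iff]
    exact hb
  haveI := hge
  have hw0 : w = 0 := DerivedCategory.TStructure.t.zero_of_isLE_of_isGE w b r' hbr
    (inferInstanceAs (((DCoh.LTensorCx P).obj tri.obj₃).IsLE b)) (inferInstanceAs (F'.IsGE r'))
  rw [hw, hw0]
  exact comp_zero

end Groth.Agent.Lib.Helper5.RHomQC
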