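import Mathlib
import Groth.Prelude.Def_DCoh3
import Groth.Agent.Lib.Helper5.RHomQC.Tri
import Groth.Agent.Lib.Helper5.Stalk.RpushGE
import Groth.Agent.Lib.Helper5.Stalk.RpushSupp

/-!
# Deligne's formula with torsion hypotheses instead of perfectness (helper5)
-/
set_option autoImplicit false
set_option linter.unusedSectionVars false
set_option linter.unusedVariables false
universe u
open CategoryTheory CategoryTheory.Limits AlgebraicGeometry Pretriangulated
attribute [local instance] HasDerivedCategory.standard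

namespace Groth.Agent.Lib.Helper5.RHomQC

open Groth.Agent.Lib.Helper5.BvdB Groth.Agent.Lib.Helper5.DCenter Groth.Agent.Lib.Helper5.QC

variable {X : Scheme.{u}}

theorem isGE_restrictD' (U : X.Opens) (E : DCoh.D X) (n : ℤ) [E.IsGE n] :
    ((DCoh.restrictD U.ι).obj E).IsGE n := by
  rw [DerivedCategory.isGE_iff]
  intro i hi
  have h0 : IsZero (DCoh.HD E i) := DerivedCategory.isZero_of_isGE E n i hi
  exact IsZero.of_iso (Functor.map_isZero (Scheme.Modules.restrictFunctor U.ι) h0)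
    (Groth.Agent.Lib.Helper5.RpushSupp.hdRestrictDIso E U i).symm

variable (A : Type u) [CommRing A] [X.Over (Spec (CommRingCat.of A))] (a : A)
  [DCoh.HasRpush (jj (X := X) A a)]

/-- the localisation triangle, with a lower bound -/
theorem exists_local_triangle_ge (F : DCoh.D X) (hF : DCoh.IsQCohD F) (r : ℤ) [F.IsGE r] :
    ∃ (F' : DCoh.D X) (α : F' ⟶ F)
      (δ : (DCoh.Rpush (jj A a)).obj ((DCoh.restrictD (jj A a)).obj F) ⟶ F'⟦(1 : ℤ)⟧),
      Triangle.mk α ((resAdj (jj A a)).unit.app F) δ ∈ distTriang (DCoh.D X) ∧ Tgt A a F' ∧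
        F'.IsGE r := by
  obtain ⟨F', α, δ, hT, hF'⟩ := exists_local_triangle A a F hF
  refine ⟨F', α, δ, hT, hF', ?_⟩
  haveI : ((DCoh.restrictD (jj (X := X) A a)).obj F).IsGE r :=
    isGE_restrictD' (nzl (X := X) A a) F r
  haveI h3 : ((DCoh.Rpush (jj (X := X) A a)).obj ((DCoh.restrictD (jj A a)).obj F)).IsGE r :=
    Groth.Agent.Lib.Helper5.RpushGE.rpush_isGE (jj (X := X) A a) _ r
  have hT' := inv_rot_of_distTriang _ hT
  haveI h0 : DerivedCategory.TStructure.t.IsGE (((DCoh.Rpush (jj (X := X) A a)).obj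
      ((DCoh.restrictD (jj A a)).obj F))⟦(-1 : ℤ)⟧) (r + 1) :=
    DerivedCategory.TStructure.t.isGE_shift _ r (-1) (r + 1) (by omega)
  have h1 : DerivedCategory.TStructure.t.IsGE (((DCoh.Rpush (jj (X := X) A a)).obj
      ((DCoh.restrictD (jj A a)).obj F))⟦(-1 : ℤ)⟧) r :=
    DerivedCategory.TStructure.t.isGE_of_ge _ r (r + 1) (by omega)
  exact DerivedCategory.TStructure.t.isGE₂ _ hT' r h1 (inferInstanceAs (F.IsGE r))

variable {A a}

/-- **Deligne's formula, injectivity part**, with a torsion hypothesis -/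
theorem deligne_inj [CompactSpace X] [QuasiSeparatedSpace X] {T T' F : DCoh.D X} (t : T' ⟶ T)
    (hF : DCoh.IsQCohD F) (r : ℤ) [F.IsGE r]
    (ht : IsIso ((DCoh.restrictD (jj A a)).map t))
    (hk : ∀ F' : DCoh.D X, Tgt A a F' → F'.IsGE r → ∀ x : T ⟶ F', ∃ k : ℕ, a ^ k • x = 0) :
    LocInj a (fun x : T ⟶ F => t ≫ x) := by
  obtain ⟨F', α, δ, hTri, hF', hge⟩ := exists_local_triangle_ge A a F hF r
  intro x hx
  change t ≫ x = 0 at hx
  have h1 : x ≫ (resAdj (jj (X := X) A a)).unit.app F = 0 := by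
    apply eq_zero_of_comp_rpush t ht
    rw [← Category.assoc, hx, zero_comp]
  obtain ⟨x₀, hx₀⟩ := Triangle.coyoneda_exact₂ _ hTri x h1
  let x' : T ⟶ F' := x₀
  have hx' : x = x' ≫ α := hx₀
  obtain ⟨n, hn⟩ := hk F' hF' hge x'
  refine ⟨n, ?_⟩
  rw [hx', ← Linear.smul_comp, hn, zero_comp]

/-- **Deligne's formula, surjectivity part**, with a torsion hypothesis -/
theorem deligne_surj [CompactSpace X] [QuasiSeparatedSpace X] {T T' F : DCoh.D X} (t : T' ⟶ T)
    (hF : DCoh.IsQCohD F) (r : ℤ) [F.IsGE r]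
    (ht : IsIso ((DCoh.restrictD (jj A a)).map t))
    (hT' : ∀ L' : DCoh.D X, IsZero ((DCoh.restrictD (jj A a)).obj L') → ∀ φ : T' ⟶ L', φ = 0)
    (hk : ∀ F' : DCoh.D X, Tgt A a F' → F'.IsGE (r - 1) →
      ∀ x : T ⟶ F', ∃ k : ℕ, a ^ k • x = 0) :
    LocSurj a (fun x : T ⟶ F => t ≫ x) := by
  obtain ⟨F', α, δ, hTri, hF', hge⟩ := exists_local_triangle_ge A a F hF r
  have hF'z : IsZero ((DCoh.restrictD (jj A a)).obj F') :=
    (isZero_restrictD_iff_vanishOn _ F').2 hF'.2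
  haveI := hge
  have hge1 : (F'⟦(1 : ℤ)⟧).IsGE (r - 1) :=
    DerivedCategory.TStructure.t.isGE_shift F' r 1 (r - 1) (by omega)
  intro y
  obtain ⟨z, hz⟩ := exists_comp_rpush t ht (y ≫ (resAdj (jj (X := X) A a)).unit.app F)
  obtain ⟨n, hn⟩ := hk _ (hF'.shift 1) hge1 (z ≫ δ)
  have h1 : ((a ^ n) • z) ≫ δ = 0 := by rw [Linear.smul_comp, hn]
  obtain ⟨x₀, hx₀⟩ := Triangle.coyoneda_exact₃ _ hTri ((a ^ n) • z) h1
  let x : T ⟶ F := x₀
  have hx : (a ^ n) • z = x ≫ (resAdj (jj (X := X) A a)).unit.app F := hx₀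
  refine ⟨n, x, ?_⟩
  change t ≫ x = (a ^ n) • y
  have h2 : (t ≫ x - (a ^ n) • y) ≫ (resAdj (jj (X := X) A a)).unit.app F = 0 := by
    rw [Preadditive.sub_comp, Category.assoc, ← hx, Linear.smul_comp, ← hz, Linear.comp_smul,
      sub_self]
  obtain ⟨d₀, hd₀⟩ := Triangle.coyoneda_exact₂ _ hTri (t ≫ x - (a ^ n) • y) h2
  let d' : T' ⟶ F' := d₀
  have hd' : t ≫ x - (a ^ n) • y = d' ≫ α := hd₀
  rw [hT' F' hF'z d', zero_comp] at hd'
  exact sub_eq_zero.1 hd'

end Groth.Agent.Lib.Helper5.RHomQC
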