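import Mathlib
import Groth.Prelude.Def_DCoh4
import Groth.Agent.Lib.Helper5.RHomQC.Main
import Groth.Agent.Lib.Helper5.RHomQC.Alg2
import Groth.Agent.Lib.Helper5.RHomQC.Tri2
import Groth.Agent.Lib.Helper5.RHomQC.Tors
import Groth.Agent.Lib.Helper5.RHomQC.ConeHom
import Groth.Agent.Lib.Helper5.RHomQC.TenSide2

/-!
# Low-degree cohomology sheaves of `RHom(F, G)` for `F` approximated by a perfect object
(helper5)
-/
set_option autoImplicit false
set_option linter.unusedSectionVars false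
set_option linter.unusedVariables false
universe u
open CategoryTheory CategoryTheory.Limits AlgebraicGeometry Pretriangulated
attribute [local instance] HasDerivedCategory.standard

namespace Groth.Agent.Lib.Helper5.RHomQC

open Groth.Agent.Lib.Helper5.BvdB Groth.Agent.Lib.Helper5.DCenter
  Groth.Agent.Lib.Helper5.ShriekProj Groth.Agent.Lib.Helper5.QC Groth.Agent.Helper1

attribute [local instance] preservesFiniteLimits_extZero

variable {X : Scheme.{u}} [CompactSpace X] [QuasiSeparatedSpace X]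
  (A : Type u) [CommRing A] [X.Over (Spec (CommRingCat.of A))]
  (F : CochainComplex X.Modules ℤ) [DCoh.HasLTensorCx F]

section Torsion

variable {T₁ T₃ : DCoh.D X} (α : T₁ ⟶ DerivedCategory.Q.obj F) (β : DerivedCategory.Q.obj F ⟶ T₃)
  (γ : T₃ ⟶ T₁⟦(1 : ℤ)⟧) (htri : Triangle.mk α β γ ∈ distTriang (DCoh.D X))
  (hperf : DCoh.IsPerfect T₁) (n : ℤ) (hC : ∀ i : ℤ, n ≤ i → IsZero (DCoh.HD T₃ i))

include htri hperf hC in
theorem torsion_ltensor_OO (a : A) (m : ℤ) (F' : DCoh.D X) (hF' : Tgt A a F') (r' : ℤ)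
    (hge : F'.IsGE r') (h : n - 1 + m < r') (x : (DCoh.LTensorCx F).obj (OO X m) ⟶ F') :
    ∃ k : ℕ, a ^ k • x = 0 := by
  haveI : DCoh.HasLTensorCx (OCx X m) := Groth.Agent.Lib.Helper5.LTenAll.hasLTensorCx _
  have hfl : DCoh.IsKFlat (OCx X m) :=
    Groth.Agent.Lib.Helper5.LTenDer.isKFlat_of_isStrictlyPerfect _ (isStrictlyPerfect_OCx m)
  let e : (DCoh.LTensorCx F).obj (OO X m) ≅
      (DCoh.LTensorCx (OCx X m)).obj (DerivedCategory.Q.obj F) := ltensorSymmIso F (OCx X m) hfl
  have hp : DCoh.IsPerfect ((DCoh.LTensorCx (OCx X m)).obj T₁) :=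
    Groth.Agent.Lib.Helper5.PerfTensor.isPerfect_LTensor (OCx X m) hfl (isPerfect_OO m) T₁ hperf
  have hb : ∀ i : ℤ, n - 1 + m < i →
      IsZero (DCoh.HD ((DCoh.LTensorCx (OCx X m)).obj T₃) i) := fun i hi =>
    isZero_HD_ltensor (OCx X m) T₃ (n - 1) m (fun i hi => hC i (by omega))
      (fun i hi => DerivedCategory.isZero_of_isLE (OO X m) m i hi) i hi
  obtain ⟨k, hk⟩ := torsion_of_triangle A a (OCx X m) (Triangle.mk α β γ) htri hp (n - 1 + m) hb
    F' hF' r' hge h (e.inv ≫ x)
  refine ⟨k, ?_⟩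
  have h1 : a ^ k • x = e.hom ≫ (a ^ k • (e.inv ≫ x)) := by
    rw [Linear.comp_smul, Iso.hom_inv_id_assoc]
  exact h1.trans ((congrArg (fun t => e.hom ≫ t) hk).trans comp_zero)

end Torsion

variable [DCoh.HasRSheafHom F]

/-- **the cohomology sheaves `H^j(RHom(F, G))`, `j < r - n`, are quasi-coherent** when `F`
admits an `n`-approximation by a perfect object, `G ∈ D_QCoh^{≥ r}`, and the loci `X_a` form a
basis -/
theorem isQuasicoherent_HD_rhom_of_triangle
    (h𝔹 : TopologicalSpace.Opens.IsBasis (Set.range fun a : A => nzl (X := X) A a))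
    {T₁ T₃ : DCoh.D X} (α : T₁ ⟶ DerivedCategory.Q.obj F) (β : DerivedCategory.Q.obj F ⟶ T₃)
    (γ : T₃ ⟶ T₁⟦(1 : ℤ)⟧) (htri : Triangle.mk α β γ ∈ distTriang (DCoh.D X))
    (hperf : DCoh.IsPerfect T₁) (n : ℤ) (hC : ∀ i : ℤ, n ≤ i → IsZero (DCoh.HD T₃ i))
    (G : DCoh.D X) (hG : DCoh.IsQCohD G) (r : ℤ) [G.IsGE r] (j : ℤ) (hj : j < r - n) :
    (DCoh.HD ((DCoh.RSheafHom F).obj G) j).IsQuasicoherent := by
  haveI : (DCoh.IsQCohD (X := X)).ι.IsLeftAdjoint :=
    Groth.Agent.Lib.Helper5.BrownU.isLeftAdjoint_ι_DQ X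
  let M : DCoh.D X := (DCoh.RSheafHom F).obj G
  let N₀ := (DCoh.IsQCohD (X := X)).ι.rightAdjoint.obj M
  let N : DCoh.D X := (DCoh.IsQCohD (X := X)).ι.obj N₀
  let c : N ⟶ M := (Adjunction.ofIsLeftAdjoint (DCoh.IsQCohD (X := X)).ι).counit.app M
  have hN : DCoh.IsQCohD N := N₀.property
  haveI : (Coh.structureModule X).IsQuasicoherent :=
    Groth.Agent.Helper1.IdealModL.isQuasicoherent_structureModule
  obtain ⟨Z, g, δ, hZ⟩ := distinguished_cocone_triangle c
  -- injectivity in degrees `m ≤ r - n`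
  have hinjU : ∀ (a : A) (m : ℤ), m ≤ r - n →
      Function.Injective (fun φ : SS (nzl (X := X) A a) m ⟶ N => φ ≫ c) := by
    intro a m hm
    haveI : DCoh.HasRpush (jj (X := X) A a) := Groth.Agent.Lib.Helper5.HomVanish.hasRpush' _
    haveI : DCoh.HasLTensorCx (KV (nzl (X := X) A a) F) :=
      Groth.Agent.Lib.Helper5.LTenAll.hasLTensorCx _
    have hOq : DCoh.IsQCohD (OO X m) := isQCohD_single (Coh.structureModule X) m
    have ht : IsIso ((DCoh.restrictD (jj (X := X) A a)).map (tt (nzl (X := X) A a) m)) :=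
      isIso_restrictD_tt (nzl (X := X) A a) m
    obtain ⟨hs₁, -⟩ := deligne (A := A) (a := a) (F := N) (tt (nzl (X := X) A a) m)
      (isPerfect_OO m) hN ht (hom_SS_eq_zero (nzl (X := X) A a) m)
    have hi₂ := locInj_transport F a (tt (nzl (X := X) A a) m) G
      (deligne_inj (A := A) (a := a) (F := G) ((DCoh.LTensorCx F).map (tt (nzl (X := X) A a) m))
        hG r (isIso_restrictD_ltensor_map F (nzl (X := X) A a) _ ht)
        (fun F' hF' hge x => torsion_ltensor_OO A F α β γ htri hperf n hC a m F' hF' r hge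
          (by omega) x))
    have hc : Function.Injective (fun x : OO X m ⟶ N => x ≫ c) :=
      (bijective_comp_counit (DCoh.IsQCohD (X := X)) ⟨OO X m, hOq⟩ M).1
    exact injective_of_loc a (Linear.leftComp A N (tt (nzl (X := X) A a) m))
      (Linear.leftComp A M (tt (nzl (X := X) A a) m)) (Linear.rightComp A (OO X m) c)
      (Linear.rightComp A (SS (nzl (X := X) A a) m) c)
      (fun x => (Category.assoc (tt (nzl (X := X) A a) m) x c)) hc hs₁ hi₂
      (fun y hy => smul_hom_SS_injective A a m y hy)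
  -- surjectivity in degrees `m ≤ r - n - 1`
  have hsurjU : ∀ (a : A) (m : ℤ), m ≤ r - n - 1 →
      Function.Surjective (fun φ : SS (nzl (X := X) A a) m ⟶ N => φ ≫ c) := by
    intro a m hm
    haveI : DCoh.HasRpush (jj (X := X) A a) := Groth.Agent.Lib.Helper5.HomVanish.hasRpush' _
    haveI : DCoh.HasLTensorCx (KV (nzl (X := X) A a) F) :=
      Groth.Agent.Lib.Helper5.LTenAll.hasLTensorCx _
    have hOq : DCoh.IsQCohD (OO X m) := isQCohD_single (Coh.structureModule X) m
    have ht : IsIso ((DCoh.restrictD (jj (X := X) A a)).map (tt (nzl (X := X) A a) m)) :=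
      isIso_restrictD_tt (nzl (X := X) A a) m
    have hs₂ := locSurj_transport F a (tt (nzl (X := X) A a) m) G
      (deligne_surj (A := A) (a := a) (F := G) ((DCoh.LTensorCx F).map (tt (nzl (X := X) A a) m))
        hG r (isIso_restrictD_ltensor_map F (nzl (X := X) A a) _ ht)
        (hom_ltensor_SS_eq_zero F (nzl (X := X) A a) m)
        (fun F' hF' hge x => torsion_ltensor_OO A F α β γ htri hperf n hC a m F' hF' (r - 1) hge
          (by omega) x))
    have hc : Function.Surjective (fun x : OO X m ⟶ N => x ≫ c) :=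
      (bijective_comp_counit (DCoh.IsQCohD (X := X)) ⟨OO X m, hOq⟩ M).2
    exact surjective_of_loc a (Linear.leftComp A N (tt (nzl (X := X) A a) m))
      (Linear.leftComp A M (tt (nzl (X := X) A a) m)) (Linear.rightComp A (OO X m) c)
      (Linear.rightComp A (SS (nzl (X := X) A a) m) c)
      (fun x => (Category.assoc (tt (nzl (X := X) A a) m) x c)) hc hs₂
      (fun y => smul_hom_SS_surjective A a m y)
      (fun y hy => smul_hom_SS_injective A a m y hy)
  -- the cone has no cohomology in degrees `≤ r - n - 1`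
  have hZ0 : ∀ m : ℤ, m ≤ r - n - 1 → IsZero (DCoh.HD Z m) := by
    intro m hm
    refine isZero_homology_cone (detects_shriekFam h𝔹) c g δ hZ
      (Groth.Agent.Lib.Helper5.RpushOpen.exists_kInjective_repr Z) m ?_ ?_
    · rintro W ⟨U, ⟨a, rfl⟩, rfl⟩
      exact hinjU a (m + 1) (by omega)
    · rintro W ⟨U, ⟨a, rfl⟩, rfl⟩
      exact hsurjU a m hm
  haveI : IsIso ((DerivedCategory.homologyFunctor X.Modules j).map c) :=
    isIso_homology_map_of_cone c g δ hZ j (hZ0 (j - 1) (by omega)) (hZ0 j (by omega))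
  haveI : (DCoh.HD N j).IsQuasicoherent := hN j
  exact QcAbel.isQuasicoherent_of_iso (asIso ((DerivedCategory.homologyFunctor X.Modules j).map c))

end Groth.Agent.Lib.Helper5.RHomQC
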