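import Mathlib
import Groth.Prelude.Def_DCoh4
import Groth.Agent.Lib.Helper5.RHomQC.PCMain
import Groth.Agent.Lib.Helper5.RHomQC.Local
import Groth.Agent.Lib.Helper5.Perf.PCApprox

/-!
# `H^j(RHom(F, G))` is quasi-coherent for `j < r - n`, `F` `n`-pseudo-coherent,
`G ∈ D_QCoh^{≥ r}` (helper5)
-/
set_option autoImplicit false
set_option linter.unusedSectionVars false
set_option linter.unusedVariables false
universe u
open CategoryTheory CategoryTheory.Limits AlgebraicGeometry Pretriangulated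
attribute [local instance] HasDerivedCategory.standard

namespace Groth.Agent.Lib.Helper5.RHomQC

open Groth.Agent.Lib.Helper5.BvdB Groth.Agent.Lib.Helper5.DCenter
  Groth.Agent.Lib.Helper5.ShriekProj Groth.Agent.Lib.Helper5.QC Groth.Agent.Helper1
  Groth.Agent.Lib.Helper5.PCApprox

attribute [local instance] preservesFiniteLimits_extZero
attribute [local instance] Groth.Agent.Lib.Helper5.HomVanish.hasRpush'
attribute [local instance] overΓ

variable {X : Scheme.{u}}

/-- local approximations on affine opens -/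
theorem exists_affine_approx {m : ℤ} {K : DCoh.D X} (hK : DCoh.IsPseudoCoherentD m K) (x : X) :
    ∃ V : X.Opens, IsAffineOpen V ∧ x ∈ V ∧ Approx m ((DCoh.restrictD V.ι).obj K) := by
  obtain ⟨W, hxW, hW⟩ := exists_approx_of_isPC hK x
  obtain ⟨V, hV, hxV, hVW⟩ := exists_isAffineOpen_mem_and_subset (X := X) (x := x) (U := W) hxW
  let k : (V : Scheme.{u}) ⟶ (W : Scheme.{u}) := X.homOfLE hVW
  have h1 : Approx m ((DCoh.restrictD (k ≫ W.ι)).obj K) := approx_comp k W.ι hW
  exact ⟨V, hV, hxV, approx_congr (by simp [k]) h1⟩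

/-- the cone of an `m`-approximation has no cohomology in degrees `≥ m` -/
theorem isZero_HD_cone_of_isApprox {U : Scheme.{u}} {m : ℤ} {A B C : DCoh.D U} (α : A ⟶ B)
    (β : B ⟶ C) (γ : C ⟶ A⟦(1 : ℤ)⟧) (hT : Triangle.mk α β γ ∈ distTriang (DCoh.D U))
    (h : IsApprox m α) (i : ℤ) (hi : m ≤ i) : IsZero (DCoh.HD C i) := by
  have h1 : Epi ((DerivedCategory.homologyFunctor _ i).map α) := h.epi i hi
  haveI h2 : IsIso ((DerivedCategory.homologyFunctor _ (i + 1)).map α) := h.1 (i + 1) (by omega)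
  have h3 : (DerivedCategory.homologyFunctor _ i).map β = 0 :=
    (DerivedCategory.HomologySequence.epi_homologyMap_mor₁_iff _ hT i).1 h1
  have h4 : DerivedCategory.HomologySequence.δ (Triangle.mk α β γ) i (i + 1) rfl = 0 :=
    (DerivedCategory.HomologySequence.mono_homologyMap_mor₁_iff _ hT i (i + 1) rfl).1
      (inferInstanceAs (Mono ((DerivedCategory.homologyFunctor _ (i + 1)).map α)))
  exact (DerivedCategory.HomologySequence.exact₃ _ hT i (i + 1) rfl).isZero_of_both_zeros h3 h4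

/-- **`H^j(RHom(F, G))` is quasi-coherent for `j < r - n`** -/
theorem isQuasicoherent_HD_rhom (F : CochainComplex X.Modules ℤ) (n : ℤ)
    (hF : DCoh.IsPseudoCoherentD n (DCoh.toD X F)) [DCoh.HasLTensorCx F] [DCoh.HasRSheafHom F]
    (G : DCoh.D X) (hG : DCoh.IsQCohD G) (r : ℤ) [G.IsGE r] (j : ℤ) (hj : j < r - n) :
    (DCoh.HD ((DCoh.RSheafHom F).obj G) j).IsQuasicoherent := by
  apply Groth.Agent.Lib.Helper5.LocalCoh.isQuasicoherent_of_locally
  intro x
  obtain ⟨V, hV, hxV, hA⟩ := exists_affine_approx hF x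
  refine ⟨V, hxV, ?_⟩
  haveI : IsAffine (V : Scheme.{u}) := hV
  haveI : DCoh.HasLTensorCx (KV V F) := Groth.Agent.Lib.Helper5.LTenAll.hasLTensorCx _
  haveI : DCoh.HasRSheafHom (KV V F) := hasRSheafHom_restrict V F
  have hA' : Approx n (DerivedCategory.Q.obj (KV V F)) :=
    hA.of_iso ((Scheme.Modules.restrictFunctor V.ι).mapDerivedCategoryFactors.app F)
  obtain ⟨E, α, hE, hα⟩ := hA'
  obtain ⟨C, β, γ, hT⟩ := distinguished_cocone_triangle α
  haveI : ((DCoh.restrictD V.ι).obj G).IsGE r := isGE_restrictD' V G r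
  have h1 := isQuasicoherent_HD_rhom_of_triangle (X := (V : Scheme.{u})) Γ((V : Scheme.{u}), ⊤)
    (KV V F) (isBasis_nzl (V : Scheme.{u})) α β γ hT (isPerfect_Q_of_isStrictlyPerfect E hE) n
    (fun i hi => isZero_HD_cone_of_isApprox α β γ hT hα i hi)
    ((DCoh.restrictD V.ι).obj G) (isQCohD_restrictD V G hG) r j hj
  let e : DCoh.HD ((DCoh.restrictD V.ι).obj ((DCoh.RSheafHom F).obj G)) j ≅
      DCoh.HD ((DCoh.RSheafHom (KV V F)).obj ((DCoh.restrictD V.ι).obj G)) j :=
    (DerivedCategory.homologyFunctor _ j).mapIso ((rhomRestrictIso V F).app G)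
  haveI := h1
  exact QcAbel.isQuasicoherent_of_iso
    ((Groth.Agent.Lib.Helper5.RpushSupp.hdRestrictDIso ((DCoh.RSheafHom F).obj G) V j) ≪≫ e).symm

end Groth.Agent.Lib.Helper5.RHomQC
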